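import Mathlib

/-!
# The icosahedral relations `x⁵ = y² = (xy)³ = 1` bound the group order by 60

The proof is a coset enumeration over the subgroup generated by `x`.
-/

set_option autoImplicit false

namespace Cfsg.Agent.H6

/-- A finite group generated by `x`, `y` with `x⁵ = y² = (xy)³ = 1` has order at most 60. -/
lemma card_le_sixty_of_relations {G : Type*} [Group G] [Finite G] {x y : G} (hx : x ^ 5 = 1)
    (hy : y ^ 2 = 1) (hxy : (x * y) ^ 3 = 1) (hgen : Subgroup.closure {x, y} = ⊤) :
    Nat.card G ≤ 60 := by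
  classical
  set H := Subgroup.zpowers x with hH
  have r5 : ∀ c : G ⧸ H, x • (x • (x • (x • (x • c)))) = c := fun c => by
    simp only [← mul_smul]
    rw [show x * (x * (x * (x * x))) = x ^ 5 by simp [pow_succ, mul_assoc], hx, one_smul]
  have r2 : ∀ c : G ⧸ H, y • (y • c) = c := fun c => by
    rw [← mul_smul, ← sq, hy, one_smul]
  have r3 : ∀ c : G ⧸ H, x • (y • (x • (y • (x • (y • c))))) = c := fun c => by
    simp only [← mul_smul]
    rw [show x * (y * (x * (y * (x * y)))) = (x * y) ^ 3 by simp [pow_succ, mul_assoc], hxy,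
      one_smul]
  obtain ⟨c0, hc0⟩ : ∃ c : G ⧸ H, ((1 : G) : G ⧸ H) = c := ⟨_, rfl⟩
  have ex0 : x • c0 = c0 := by
    rw [← hc0, MulAction.Quotient.smul_coe, smul_eq_mul, mul_one, QuotientGroup.eq]
    simp [hH]
  obtain ⟨c1, ey0⟩ : ∃ c, y • c0 = c := ⟨_, rfl⟩
  have ey1 : y • c1 = c0 := by
    have h := r2 c0
    simp only [ey0] at h
    exact h
  obtain ⟨c2, ex1⟩ : ∃ c, x • c1 = c := ⟨_, rfl⟩
  obtain ⟨c3, ey2⟩ : ∃ c, y • c2 = c := ⟨_, rfl⟩
  have ex3 : x • c3 = c1 := by
    have h := r3 c0
    simp only [ey0, ex1, ey2] at h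
    have hb : x • (y • (c1)) = c0 := by simp only [ey1, ex0]
    simpa only [smul_left_cancel_iff] using h.trans hb.symm
  have ey3 : y • c3 = c2 := by
    have h := r2 c2
    simp only [ey2] at h
    exact h
  obtain ⟨c4, ex2⟩ : ∃ c, x • c2 = c := ⟨_, rfl⟩
  obtain ⟨c5, ey4⟩ : ∃ c, y • c4 = c := ⟨_, rfl⟩
  have ey5 : y • c5 = c4 := by
    have h := r2 c4
    simp only [ey4] at h
    exact h
  obtain ⟨c6, ex4⟩ : ∃ c, x • c4 = c := ⟨_, rfl⟩
  have ex6 : x • c6 = c3 := by
    have h := r5 c1
    simp only [ex1, ex2, ex4] at h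
    have hb : x • (c3) = c1 := by simp only [ex3]
    simpa only [smul_left_cancel_iff] using h.trans hb.symm
  obtain ⟨c7, ex5⟩ : ∃ c, x • c5 = c := ⟨_, rfl⟩
  have ey7 : y • c7 = c6 := by
    have h := r3 c3
    simp only [ey3, ex2, ey4, ex5] at h
    have hb : x • (c6) = c3 := by simp only [ex6]
    simpa only [smul_left_cancel_iff] using h.trans hb.symm
  have ey6 : y • c6 = c7 := by
    have h := r2 c6
    have hb : y • (c7) = c6 := by simp only [ey7]
    simpa only [smul_left_cancel_iff] using h.trans hb.symm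
  obtain ⟨c8, ex7⟩ : ∃ c, x • c7 = c := ⟨_, rfl⟩
  obtain ⟨c9, ey8⟩ : ∃ c, y • c8 = c := ⟨_, rfl⟩
  have ex9 : x • c9 = c5 := by
    have h := r3 c5
    simp only [ey5, ex4, ey6, ex7, ey8] at h
    exact h
  have ey9 : y • c9 = c8 := by
    have h := r2 c8
    simp only [ey8] at h
    exact h
  obtain ⟨c10, ex8⟩ : ∃ c, x • c8 = c := ⟨_, rfl⟩
  have ex10 : x • c10 = c9 := by
    have h := r5 c5
    simp only [ex5, ex7, ex8] at h
    have hb : x • (c9) = c5 := by simp only [ex9]
    simpa only [smul_left_cancel_iff] using h.trans hb.symm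
  obtain ⟨c11, ey10⟩ : ∃ c, y • c10 = c := ⟨_, rfl⟩
  have ey11 : y • c11 = c10 := by
    have h := r2 c10
    simp only [ey10] at h
    exact h
  have ex11 : x • c11 = c11 := by
    have h := r3 c10
    simp only [ey10] at h
    have hb : x • (y • (x • (y • (c11)))) = c10 := by simp only [ey11, ex10, ey9, ex8]
    simpa only [smul_left_cancel_iff] using h.trans hb.symm
  let S : Finset (G ⧸ H) := {c0, c1, c2, c3, c4, c5, c6, c7, c8, c9, c10, c11}
  have hSx : ∀ c ∈ S, x • c ∈ S := by
    intro c hc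
    simp only [S, Finset.mem_insert, Finset.mem_singleton] at hc ⊢
    rcases hc with rfl | rfl | rfl | rfl | rfl | rfl | rfl | rfl | rfl | rfl | rfl | rfl <;> simp [ex0, ex1, ex2, ex3, ex4, ex5, ex6, ex7, ex8, ex9, ex10, ex11]
  have hSy : ∀ c ∈ S, y • c ∈ S := by
    intro c hc
    simp only [S, Finset.mem_insert, Finset.mem_singleton] at hc ⊢
    rcases hc with rfl | rfl | rfl | rfl | rfl | rfl | rfl | rfl | rfl | rfl | rfl | rfl <;> simp [ey0, ey1, ey2, ey3, ey4, ey5, ey6, ey7, ey8, ey9, ey10, ey11]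
  have hall : ∀ g : G, ∀ c ∈ S, g • c ∈ S := by
    intro g
    have hg : g ∈ Submonoid.closure ({x, y} : Set G) := by
      rw [← Subgroup.closure_toSubmonoid_of_finite, hgen]
      exact Subgroup.mem_top g
    induction hg using Submonoid.closure_induction with
    | mem a ha =>
      rcases ha with rfl | rfl
      · exact hSx
      · exact hSy
    | one => intro c hc; rwa [one_smul]
    | mul a b _ _ ha hb => intro c hc; rw [mul_smul]; exact ha _ (hb c hc)
  have hidx : H.index ≤ 12 := by
    have hcov : ∀ c : G ⧸ H, c ∈ S := by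
      intro c
      induction c using QuotientGroup.induction_on with | H g =>
      have := hall g c0 (by simp [S])
      rwa [← hc0, MulAction.Quotient.smul_coe, smul_eq_mul, mul_one] at this
    have h : Nat.card (G ⧸ H) ≤ Nat.card S :=
      Nat.card_le_card_of_injective (fun c => ⟨c, hcov c⟩) fun a b e => congrArg Subtype.val e
    rw [Nat.card_eq_finsetCard] at h
    exact h.trans (by
      simp only [S]
      refine le_trans (Finset.card_insert_le _ _) ?_
      repeat' refine Nat.succ_le_succ (le_trans (Finset.card_insert_le _ _) ?_)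
      simp)
  have hcard : Nat.card H ≤ 5 := by
    rw [hH, Nat.card_zpowers]
    exact Nat.le_of_dvd (by norm_num) (orderOf_dvd_of_pow_eq_one hx)
  calc Nat.card G = Nat.card H * H.index := H.card_mul_index.symm
    _ ≤ 5 * 12 := Nat.mul_le_mul hcard hidx
    _ = 60 := rfl

end Cfsg.Agent.H6
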