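import Cfsg.Agent.H25.Burnside
import Cfsg.Agent.S0494
import Cfsg.Agent.H6.Icosahedral

/-!
# Groups of order at most 60
-/

set_option autoImplicit false

namespace Cfsg.Agent.H6

lemma small_number_cases (n : ℕ) (hn : n < 60) : (n = 30 ∨ n = 42) ∨ n ≤ 1 ∨
    ∃ p q a b : ℕ, p.Prime ∧ q.Prime ∧ n = p ^ a * q ^ b := by
  interval_cases n
  · exact Or.inr (Or.inl (by norm_num))
  · exact Or.inr (Or.inl (by norm_num))
  · exact Or.inr (Or.inr ⟨2, 2, 1, 0, by norm_num, by norm_num, by norm_num⟩)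
  · exact Or.inr (Or.inr ⟨3, 3, 1, 0, by norm_num, by norm_num, by norm_num⟩)
  · exact Or.inr (Or.inr ⟨2, 2, 2, 0, by norm_num, by norm_num, by norm_num⟩)
  · exact Or.inr (Or.inr ⟨5, 5, 1, 0, by norm_num, by norm_num, by norm_num⟩)
  · exact Or.inr (Or.inr ⟨2, 3, 1, 1, by norm_num, by norm_num, by norm_num⟩)
  · exact Or.inr (Or.inr ⟨7, 7, 1, 0, by norm_num, by norm_num, by norm_num⟩)
  · exact Or.inr (Or.inr ⟨2, 2, 3, 0, by norm_num, by norm_num, by norm_num⟩)
  · exact Or.inr (Or.inr ⟨3, 3, 2, 0, by norm_num, by norm_num, by norm_num⟩)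
  · exact Or.inr (Or.inr ⟨2, 5, 1, 1, by norm_num, by norm_num, by norm_num⟩)
  · exact Or.inr (Or.inr ⟨11, 11, 1, 0, by norm_num, by norm_num, by norm_num⟩)
  · exact Or.inr (Or.inr ⟨2, 3, 2, 1, by norm_num, by norm_num, by norm_num⟩)
  · exact Or.inr (Or.inr ⟨13, 13, 1, 0, by norm_num, by norm_num, by norm_num⟩)
  · exact Or.inr (Or.inr ⟨2, 7, 1, 1, by norm_num, by norm_num, by norm_num⟩)
  · exact Or.inr (Or.inr ⟨3, 5, 1, 1, by norm_num, by norm_num, by norm_num⟩)
  · exact Or.inr (Or.inr ⟨2, 2, 4, 0, by norm_num, by norm_num, by norm_num⟩)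
  · exact Or.inr (Or.inr ⟨17, 17, 1, 0, by norm_num, by norm_num, by norm_num⟩)
  · exact Or.inr (Or.inr ⟨2, 3, 1, 2, by norm_num, by norm_num, by norm_num⟩)
  · exact Or.inr (Or.inr ⟨19, 19, 1, 0, by norm_num, by norm_num, by norm_num⟩)
  · exact Or.inr (Or.inr ⟨2, 5, 2, 1, by norm_num, by norm_num, by norm_num⟩)
  · exact Or.inr (Or.inr ⟨3, 7, 1, 1, by norm_num, by norm_num, by norm_num⟩)
  · exact Or.inr (Or.inr ⟨2, 11, 1, 1, by norm_num, by norm_num, by norm_num⟩)
  · exact Or.inr (Or.inr ⟨23, 23, 1, 0, by norm_num, by norm_num, by norm_num⟩)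
  · exact Or.inr (Or.inr ⟨2, 3, 3, 1, by norm_num, by norm_num, by norm_num⟩)
  · exact Or.inr (Or.inr ⟨5, 5, 2, 0, by norm_num, by norm_num, by norm_num⟩)
  · exact Or.inr (Or.inr ⟨2, 13, 1, 1, by norm_num, by norm_num, by norm_num⟩)
  · exact Or.inr (Or.inr ⟨3, 3, 3, 0, by norm_num, by norm_num, by norm_num⟩)
  · exact Or.inr (Or.inr ⟨2, 7, 2, 1, by norm_num, by norm_num, by norm_num⟩)
  · exact Or.inr (Or.inr ⟨29, 29, 1, 0, by norm_num, by norm_num, by norm_num⟩)
  · exact Or.inl (Or.inl rfl)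
  · exact Or.inr (Or.inr ⟨31, 31, 1, 0, by norm_num, by norm_num, by norm_num⟩)
  · exact Or.inr (Or.inr ⟨2, 2, 5, 0, by norm_num, by norm_num, by norm_num⟩)
  · exact Or.inr (Or.inr ⟨3, 11, 1, 1, by norm_num, by norm_num, by norm_num⟩)
  · exact Or.inr (Or.inr ⟨2, 17, 1, 1, by norm_num, by norm_num, by norm_num⟩)
  · exact Or.inr (Or.inr ⟨5, 7, 1, 1, by norm_num, by norm_num, by norm_num⟩)
  · exact Or.inr (Or.inr ⟨2, 3, 2, 2, by norm_num, by norm_num, by norm_num⟩)
  · exact Or.inr (Or.inr ⟨37, 37, 1, 0, by norm_num, by norm_num, by norm_num⟩)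
  · exact Or.inr (Or.inr ⟨2, 19, 1, 1, by norm_num, by norm_num, by norm_num⟩)
  · exact Or.inr (Or.inr ⟨3, 13, 1, 1, by norm_num, by norm_num, by norm_num⟩)
  · exact Or.inr (Or.inr ⟨2, 5, 3, 1, by norm_num, by norm_num, by norm_num⟩)
  · exact Or.inr (Or.inr ⟨41, 41, 1, 0, by norm_num, by norm_num, by norm_num⟩)
  · exact Or.inl (Or.inr rfl)
  · exact Or.inr (Or.inr ⟨43, 43, 1, 0, by norm_num, by norm_num, by norm_num⟩)
  · exact Or.inr (Or.inr ⟨2, 11, 2, 1, by norm_num, by norm_num, by norm_num⟩)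
  · exact Or.inr (Or.inr ⟨3, 5, 2, 1, by norm_num, by norm_num, by norm_num⟩)
  · exact Or.inr (Or.inr ⟨2, 23, 1, 1, by norm_num, by norm_num, by norm_num⟩)
  · exact Or.inr (Or.inr ⟨47, 47, 1, 0, by norm_num, by norm_num, by norm_num⟩)
  · exact Or.inr (Or.inr ⟨2, 3, 4, 1, by norm_num, by norm_num, by norm_num⟩)
  · exact Or.inr (Or.inr ⟨7, 7, 2, 0, by norm_num, by norm_num, by norm_num⟩)
  · exact Or.inr (Or.inr ⟨2, 5, 1, 2, by norm_num, by norm_num, by norm_num⟩)
  · exact Or.inr (Or.inr ⟨3, 17, 1, 1, by norm_num, by norm_num, by norm_num⟩)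
  · exact Or.inr (Or.inr ⟨2, 13, 2, 1, by norm_num, by norm_num, by norm_num⟩)
  · exact Or.inr (Or.inr ⟨53, 53, 1, 0, by norm_num, by norm_num, by norm_num⟩)
  · exact Or.inr (Or.inr ⟨2, 3, 1, 3, by norm_num, by norm_num, by norm_num⟩)
  · exact Or.inr (Or.inr ⟨5, 11, 1, 1, by norm_num, by norm_num, by norm_num⟩)
  · exact Or.inr (Or.inr ⟨2, 7, 3, 1, by norm_num, by norm_num, by norm_num⟩)
  · exact Or.inr (Or.inr ⟨3, 19, 1, 1, by norm_num, by norm_num, by norm_num⟩)
  · exact Or.inr (Or.inr ⟨2, 29, 1, 1, by norm_num, by norm_num, by norm_num⟩)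
  · exact Or.inr (Or.inr ⟨59, 59, 1, 0, by norm_num, by norm_num, by norm_num⟩)

/-- Groups of order less than 60 are solvable. -/
lemma isSolvable_of_card_lt_sixty {G : Type*} [Group G] [Finite G] (h : Nat.card G < 60) :
    Group.IsSolvable G := by
  rcases small_number_cases _ h with h30 | h1 | ⟨p, q, a, b, hp, hq, e⟩
  · have hsq : Squarefree (Nat.card G) := by
      rcases h30 with e | e <;> rw [e] <;> decide +kernel
    have := IsZGroup.of_squarefree hsq
    infer_instance
  · have : Subsingleton G := (Finite.card_le_one_iff_subsingleton).1 h1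
    infer_instance
  · exact Cfsg.Agent.H25.isSolvable_of_card_eq_mul_pow hp hq e

/-- A non-solvable group of order at most 60 is isomorphic to `A₅`. -/
lemma nonempty_equiv_alternating_five {G : Type*} [Group G] [Finite G]
    (hns : ¬ Group.IsSolvable G) (h : Nat.card G ≤ 60) :
    Nat.card G = 60 ∧ Nonempty (G ≃* alternatingGroup (Fin 5)) := by
  have h60 : Nat.card G = 60 := by
    by_contra hne
    exact hns (isSolvable_of_card_lt_sixty (by omega))
  refine ⟨h60, ?_⟩
  have : Nontrivial G := Finite.one_lt_card_iff_nontrivial.1 (by omega)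
  have : IsSimpleGroup G := ⟨fun N hN => by
    by_contra hc
    push Not at hc
    have hm := N.card_mul_index
    have h1 : 1 < Nat.card N := (Subgroup.one_lt_card_iff_ne_bot N).2 hc.1
    have h2 : N.index ≠ 1 := fun e => hc.2 (Subgroup.index_eq_one.1 e)
    have h3 : 1 < N.index := by
      have := Subgroup.index_ne_zero_of_finite (H := N)
      omega
    have := isSolvable_of_card_lt_sixty (G := N) (by nlinarith)
    have := isSolvable_of_card_lt_sixty (G := G ⧸ N) (by
      show N.index < 60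
      nlinarith)
    exact hns (Group.isSolvable_of_ker_le_range N.subtype (QuotientGroup.mk' N) (by simp))⟩
  exact Cfsg.Agent.S0494.result h60

/-- A finite non-trivial group generated by `x`, `y` with `x⁵ = y² = (xy)³ = 1` is `A₅`. -/
lemma nonempty_equiv_alternating_five_of_relations {G : Type*} [Group G] [Finite G] [Nontrivial G]
    {x y : G} (hx : x ^ 5 = 1) (hy : y ^ 2 = 1) (hxy : (x * y) ^ 3 = 1)
    (hgen : Subgroup.closure {x, y} = ⊤) :
    Nat.card G = 60 ∧ Nonempty (G ≃* alternatingGroup (Fin 5)) := by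
  refine nonempty_equiv_alternating_five (fun hs => ?_)
    (card_le_sixty_of_relations hx hy hxy hgen)
  refine (ne_of_lt (Group.IsSolvable.commutator_lt_top_of_nontrivial G)) ?_
  have hle : ({x, y} : Set G) ⊆ (Abelianization.of (G := G)).ker := by
    have h5 := congrArg Abelianization.of hx
    have h2 := congrArg Abelianization.of hy
    have h3 := congrArg Abelianization.of hxy
    simp only [map_pow, map_mul, map_one] at h5 h2 h3
    have hX : Abelianization.of x = 1 := by
      have h6 : (Abelianization.of x) ^ 6 = 1 := by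
        have e : (Abelianization.of x * Abelianization.of y) ^ 6 =
            (Abelianization.of x) ^ 6 * ((Abelianization.of y) ^ 2) ^ 3 := by
          rw [mul_pow, ← pow_mul]
        rw [show (6 : ℕ) = 3 * 2 by rfl, pow_mul, h3, one_pow, h2, one_pow, mul_one] at e
        exact e.symm
      rw [show (6 : ℕ) = 5 + 1 by rfl, pow_succ, h5, one_mul] at h6
      exact h6
    have hY : Abelianization.of y = 1 := by
      rw [hX, one_mul, show (3 : ℕ) = 2 + 1 by rfl, pow_succ, h2, one_mul] at h3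
      exact h3
    rintro z (rfl | rfl)
    · exact hX
    · exact hY
  have h := (Subgroup.closure_le _).2 hle
  rw [hgen, Abelianization.ker_of] at h
  exact top_le_iff.1 h

end Cfsg.Agent.H6
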