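import Cfsg.Agent.H6.Four
import Cfsg.Agent.H6.SmallOrder

/-!
# Existence of `A₄`, `S₄` and `A₅` inside `PSL₂(q)`
-/

set_option autoImplicit false

open Matrix MatrixGroups

namespace Cfsg.Agent.H6

variable {F : Type*} [Field F]

lemma neg_one_eq_one_of_two (h2 : (2 : F) = 0) : (-1 : SL(2, F)) = 1 := by
  apply sl2_ext <;> simp [sl2_neg, neg_eq_iff_add_eq_zero, one_add_one_eq_two, h2]

lemma π_injective_of_two (h2 : (2 : F) = 0) : Function.Injective (π : SL(2, F) → PSL(2, F)) := by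
  intro a b e
  rcases π_eq_iff.1 e with h | h
  · exact h
  · rw [h, ← neg_one_mul b, neg_one_eq_one_of_two h2, one_mul]

/-- In characteristic two an element of square one has trace zero, and conversely. -/
lemma mul_self_eq_one_iff_two (h2 : (2 : F) = 0) {g : SL(2, F)} : g * g = 1 ↔ tr g = 0 := by
  constructor
  · intro e
    by_contra ht
    have e00 := sl2_sq g 0 0
    have e11 := sl2_sq g 1 1
    rw [e] at e00 e11
    simp at e00 e11
    have h : tr g = g 0 0 + g 1 1 := rfl
    exact ht (mul_self_eq_zero.1 (show tr g * tr g = 0 by grind))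
  · intro ht
    apply sl2_ext <;> simp [sl2_sq, ht] <;>
      linear_combination (norm := ring_nf) (-1 : F) * h2 <;> simp

variable [Fintype F] {q : ℕ}

lemma card_psl2_dvd (hq : Fintype.card F = q) {H : Subgroup PSL(2, F)} {m : ℕ}
    (h : Nat.card H = m) : m ∣ q * (q ^ 2 - 1) := by
  rw [← card_psl2_mul hq, ← h]
  exact dvd_mul_of_dvd_left H.card_subgroup_dvd_card _

/-- In odd characteristic, the normaliser of a four-group contains a copy of `A₄`, and is `S₄` if
`q ≡ ±1 (mod 8)`. -/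
lemma normalizer_four_iso (hq : Fintype.card F = q) (h2 : (2 : F) ≠ 0)
    {V : Subgroup PSL(2, F)} (hV : IsKleinFour V) :
    ((q % 8 = 1 ∨ q % 8 = 7) →
      Nonempty (Subgroup.normalizer (V : Set PSL(2, F)) ≃* Equiv.Perm (Fin 4))) ∧
    ((q % 8 = 3 ∨ q % 8 = 5) →
      Nonempty (Subgroup.normalizer (V : Set PSL(2, F)) ≃* alternatingGroup (Fin 4))) := by
  set N := Subgroup.normalizer (V : Set PSL(2, F))
  have hVN : V ≤ N := Subgroup.le_normalizer
  set W := V.subgroupOf N
  have hW : Nat.card W = 4 := by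
    rw [Nat.card_congr (Subgroup.subgroupOfEquivOfLe hVN).toEquiv]; exact hV.card_four
  have : W.Normal := Subgroup.normal_in_normalizer
  have hC : Subgroup.centralizer (W : Set N) ≤ W := fun x hx => by
    refine Subgroup.mem_subgroupOf.2 (centralizer_four_le h2 hV ?_)
    rw [Subgroup.mem_centralizer_iff]
    intro v hv
    exact congrArg Subtype.val
      (Subgroup.mem_centralizer_iff.1 hx ⟨v, hVN hv⟩ (Subgroup.mem_subgroupOf.2 hv))
  have htr : ∀ a ∈ W, ∀ b ∈ W, a ≠ 1 → b ≠ 1 → ∃ g : N, g * a * g⁻¹ = b := by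
    intro a ha b hb ha1 hb1
    obtain ⟨g, hg, e⟩ := normalizer_four_transitive h2 hq hV (Subgroup.mem_subgroupOf.1 ha)
      (Subgroup.mem_subgroupOf.1 hb) (fun e => ha1 (Subtype.ext e)) (fun e => hb1 (Subtype.ext e))
    exact ⟨⟨g, hg⟩, Subtype.ext e⟩
  exact ⟨fun h8 => nonempty_equiv_perm_four (card_normalizer_four_one h2 hq h8 hV) W hW hC htr,
    fun h8 => nonempty_equiv_alternating_four (card_normalizer_four_three h2 hq h8 hV) W hW hC htr⟩

/-- `A₄ ≤ PSL₂(q)` for odd `q`. -/
lemma exists_alt_four_odd (hq : Fintype.card F = q) (h2 : (2 : F) ≠ 0) :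
    ∃ H : Subgroup PSL(2, F), Nonempty (H ≃* alternatingGroup (Fin 4)) := by
  obtain ⟨V, hV⟩ := exists_four (F := F) h2
  obtain ⟨h1, h3⟩ := normalizer_four_iso hq h2 hV
  have hodd := odd_of_two_ne hq h2
  rcases (show (q % 8 = 3 ∨ q % 8 = 5) ∨ (q % 8 = 1 ∨ q % 8 = 7) by omega) with h8 | h8
  · exact ⟨_, h3 h8⟩
  · obtain ⟨e⟩ := h1 h8
    refine ⟨(alternatingGroup (Fin 4)).map
      ((Subgroup.normalizer (V : Set PSL(2, F))).subtype.comp e.symm.toMonoidHom), ⟨?_⟩⟩
    exact (Subgroup.equivMapOfInjective _ _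
      (Subtype.val_injective.comp e.symm.injective)).symm

/-- A subgroup of upper triangular matrices over the field with four elements. -/
def borelFour (h2 : (2 : F) = 0) : Subgroup SL(2, F) where
  carrier := {g | g 1 0 = 0 ∧ g 0 0 ^ 3 = 1 ∧ g 0 1 ^ 4 = g 0 1}
  one_mem' := by simp
  mul_mem' := by
    rintro g h ⟨g1, g2, g3⟩ ⟨h1, h3, h4⟩
    have dg := sl2_det g
    have dh := sl2_det h
    rw [g1, mul_zero, sub_zero] at dg
    rw [h1, mul_zero, sub_zero] at dh
    have h11 : h 1 1 ^ 3 = 1 := by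
      have e : (h 0 0 * h 1 1) ^ 3 = 1 := by rw [dh, one_pow]
      rwa [mul_pow, h3, one_mul] at e
    have g4 : g 0 0 ^ 4 = g 0 0 := by rw [pow_succ, g2, one_mul]
    have h114 : h 1 1 ^ 4 = h 1 1 := by rw [pow_succ, h11, one_mul]
    refine ⟨by simp [sl2_mul, g1, h1], by simp [sl2_mul, h1, mul_pow, g2, h3], ?_⟩
    simp only [sl2_mul]
    linear_combination (g 0 0 * g3 * 0) + h 1 1 ^ 4 * g3 + g 0 1 * h114 + h 0 1 ^ 4 * g4 +
      g 0 0 * h4 + (2 * (g 0 0 * h 0 1) ^ 3 * (g 0 1 * h 1 1) +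
        3 * (g 0 0 * h 0 1) ^ 2 * (g 0 1 * h 1 1) ^ 2 +
        2 * (g 0 0 * h 0 1) * (g 0 1 * h 1 1) ^ 3) * h2
  inv_mem' := by
    rintro g ⟨g1, g2, g3⟩
    have dg := sl2_det g
    rw [g1, mul_zero, sub_zero] at dg
    refine ⟨by simp [sl2_inv_10, g1], ?_, ?_⟩
    · have e : (g 0 0 * g 1 1) ^ 3 = 1 := by rw [dg, one_pow]
      rw [sl2_inv_00]
      rwa [mul_pow, g2, one_mul] at e
    · rw [sl2_inv_01, show (4 : ℕ) = 2 * 2 by rfl, pow_mul, neg_sq, ← pow_mul]
      linear_combination g3 + g 0 1 * h2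

/-- `A₄ ≤ PSL₂(q)` in characteristic two if `3 ∣ q - 1`. -/
lemma exists_alt_four_two (hq : Fintype.card F = q) (h2 : (2 : F) = 0) (h3 : 3 ∣ q - 1) :
    ∃ H : Subgroup PSL(2, F), Nonempty (H ≃* alternatingGroup (Fin 4)) := by
  classical
  have : Fact (Nat.Prime 3) := ⟨Nat.prime_three⟩
  obtain ⟨u, hu⟩ := exists_prime_orderOf_dvd_card (G := Fˣ) 3 (by rw [Fintype.card_units, hq]; exact h3)
  set ω : F := (u : F)
  have hω3 : ω ^ 3 = 1 := by
    have := congrArg Units.val (hu ▸ pow_orderOf_eq_one u)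
    simpa using this
  have hω1 : ω ≠ 1 := fun e => by
    rw [Units.val_eq_one.1 e, orderOf_one] at hu; norm_num at hu
  have hω0 : ω ≠ 0 := u.ne_zero
  have hω2 : ω ^ 2 + ω + 1 = 0 :=
    (mul_eq_zero.1 (show (ω - 1) * (ω ^ 2 + ω + 1) = 0 by linear_combination hω3)).resolve_left
      (sub_ne_zero.2 hω1)
  have hroot : ∀ x : F, x ^ 3 = 1 ↔ x ∈ ({1, ω, ω ^ 2} : Finset F) := by
    intro x
    simp only [Finset.mem_insert, Finset.mem_singleton]
    constructor
    · intro hx
      have : (x - 1) * ((x - ω) * (x - ω ^ 2)) = 0 := by grind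
      simpa [mul_eq_zero, sub_eq_zero] using this
    · rintro (rfl | rfl | rfl)
      · simp
      · exact hω3
      · rw [← pow_mul, mul_comm, pow_mul, hω3, one_pow]
  have hc3 : ({1, ω, ω ^ 2} : Finset F).card = 3 := by
    have e1 : (1 : F) ≠ ω ^ 2 := fun e => hω1 (by
      have : ω ^ 3 = ω := by rw [pow_succ, ← e, one_mul]
      rw [← this, hω3])
    have e2 : ω ≠ ω ^ 2 := fun e => hω1 (mul_left_cancel₀ hω0 (by rw [← sq, ← e, mul_one]))
    rw [Finset.card_insert_of_notMem (by simp [hω1.symm, e1]),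
      Finset.card_insert_of_notMem (by simp [e2]), Finset.card_singleton]
  have hc3' : (Finset.univ.filter fun x : F => x ^ 3 = 1).card = 3 := by
    rw [show (Finset.univ.filter fun x : F => x ^ 3 = 1) = {1, ω, ω ^ 2} by ext x; simp [hroot], hc3]
  have hc4 : (Finset.univ.filter fun x : F => x ^ 4 = x).card = 4 := by
    have e : (Finset.univ.filter fun x : F => x ^ 4 = x) =
        insert 0 (Finset.univ.filter fun x : F => x ^ 3 = 1) := by
      ext x
      simp only [Finset.mem_filter, Finset.mem_univ, true_and, Finset.mem_insert]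
      constructor
      · intro hx
        by_cases h0 : x = 0
        · exact Or.inl h0
        · exact Or.inr (mul_left_cancel₀ h0 (by rw [← pow_succ', mul_one]; exact hx))
      · rintro (rfl | hx)
        · simp
        · rw [pow_succ, hx, one_mul]
    rw [e, Finset.card_insert_of_notMem (by simp), hc3']
  set H := borelFour h2
  let e : {t : F // t ^ 3 = 1} × {a : F // a ^ 4 = a} ≃ H :=
    { toFun := fun v => ⟨sl2 v.1.1 v.2.1 0 v.1.1⁻¹ (by
          have : v.1.1 ≠ 0 := fun e => by simpa [e] using v.1.2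
          simp [this]), by
        refine ⟨rfl, v.1.2, v.2.2⟩⟩
      invFun := fun g => (⟨g.1 0 0, g.2.2.1⟩, ⟨g.1 0 1, g.2.2.2⟩)
      left_inv := fun v => by simp
      right_inv := fun g => by
        have dg := sl2_det g.1
        rw [g.2.1, mul_zero, sub_zero] at dg
        apply Subtype.ext
        apply sl2_ext <;> simp [g.2.1]
        exact (eq_inv_of_mul_eq_one_right dg).symm }
  have hH : Nat.card H = 12 := by
    rw [← Nat.card_congr e, Nat.card_prod, Nat.card_eq_fintype_card, Fintype.card_subtype,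
      Nat.card_eq_fintype_card, Fintype.card_subtype,
      hc3', hc4]
  let V : Subgroup H :=
    { carrier := {g | g.1 0 0 = 1}
      one_mem' := by simp
      mul_mem' := fun {g h} hg hh => by
        simp only [Set.mem_setOf_eq, Subgroup.coe_mul, sl2_mul] at hg hh ⊢
        rw [hg, hh, h.2.1, mul_zero, add_zero, one_mul]
      inv_mem' := fun {g} hg => by
        simp only [Set.mem_setOf_eq, Subgroup.coe_inv, sl2_inv_00] at hg ⊢
        have dg := sl2_det g.1
        rw [g.2.1, mul_zero, sub_zero, hg, one_mul] at dg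
        exact dg }
  have hV : Nat.card V = 4 := by
    let e' : {a : F // a ^ 4 = a} ≃ V :=
      { toFun := fun a => ⟨e (⟨1, one_pow 3⟩, a), rfl⟩
        invFun := fun g => (e.symm g.1).2
        left_inv := fun a => by simp
        right_inv := fun g => by
          apply Subtype.ext
          apply e.symm.injective
          rw [Equiv.symm_apply_apply]
          exact Prod.ext (Subtype.ext g.2.symm) rfl }
    rw [← Nat.card_congr e', Nat.card_eq_fintype_card, Fintype.card_subtype,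
      hc4]
  have : V.Normal := ⟨fun n hn g => by
    show (g.1 * n.1 * g.1⁻¹) 0 0 = 1
    have dg := sl2_det g.1
    rw [g.2.1, mul_zero, sub_zero] at dg
    simp only [sl2_mul, sl2_inv_00, sl2_inv_10, g.2.1, n.2.1, show n.1 0 0 = 1 from hn]
    linear_combination dg⟩
  have hC : Subgroup.centralizer (V : Set H) ≤ V := by
    intro x hx
    have hu : (sl2 (1 : F) 1 0 1 (by simp)) ∈ H := ⟨rfl, by simp, by simp⟩
    have e := congrArg (fun z : H => z.1 0 1)
      (Subgroup.mem_centralizer_iff.1 hx ⟨_, hu⟩ (show (sl2 (1 : F) 1 0 1 (by simp)) 0 0 = 1 from rfl))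
    simp only [Subgroup.coe_mul, sl2_mul, sl2_00, sl2_01, sl2_11] at e
    have dg := sl2_det x.1
    rw [x.2.1, mul_zero, sub_zero] at dg
    show x.1 0 0 = 1
    exact (mul_self_eq_one_iff.1 (show x.1 0 0 * x.1 0 0 = 1 by grind)).elim id
      fun e => by rw [e]; linear_combination (-1 : F) * h2
  have htr : ∀ a ∈ V, ∀ b ∈ V, a ≠ 1 → b ≠ 1 → ∃ g : H, g * a * g⁻¹ = b := by
    intro a ha b hb ha1 hb1
    have hne : ∀ c ∈ V, c ≠ 1 → c.1 0 1 ≠ 0 ∧ c.1 1 1 = 1 := by
      intro c hc hc1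
      have dg := sl2_det c.1
      rw [c.2.1, mul_zero, sub_zero, show c.1 0 0 = 1 from hc, one_mul] at dg
      refine ⟨fun e => hc1 (Subtype.ext ?_), dg⟩
      apply sl2_ext <;> simp [e, show c.1 0 0 = 1 from hc, c.2.1, dg]
    obtain ⟨hA, ha11⟩ := hne a ha ha1
    obtain ⟨hB, hb11⟩ := hne b hb hb1
    have hA3 : a.1 0 1 ^ 3 = 1 :=
      mul_left_cancel₀ hA (by rw [← pow_succ', mul_one]; exact a.2.2.2)
    have hB3 : b.1 0 1 ^ 3 = 1 :=
      mul_left_cancel₀ hB (by rw [← pow_succ', mul_one]; exact b.2.2.2)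
    set t := (b.1 0 1 / a.1 0 1) ^ 2 with ht
    have ht3 : t ^ 3 = 1 := by rw [ht, ← pow_mul, mul_comm, pow_mul, div_pow, hA3, hB3]; simp
    refine ⟨e (⟨t, ht3⟩, ⟨0, by simp⟩), Subtype.ext ?_⟩
    have ha00 : a.1 0 0 = 1 := ha
    have hb00 : b.1 0 0 = 1 := hb
    have ht0 : t ≠ 0 := fun e => by simp [e] at ht3
    apply sl2_ext <;>
      simp [e, sl2_mul, sl2_inv_00, sl2_inv_01, sl2_inv_10, sl2_inv_11, a.2.1, b.2.1, ha00, hb00,
        ha11, hb11, ht0]
    rw [ht]
    field_simp
    linear_combination hB3 - hA3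
  obtain ⟨φ⟩ := nonempty_equiv_alternating_four hH V hV hC htr
  exact ⟨H.map π, ⟨(Subgroup.equivMapOfInjective _ _ (π_injective_of_two h2)).symm.trans φ⟩⟩

/-- In characteristic two, an element of order three normalising a four-group forces `3 ∣ q - 1`. -/
lemma not_exists_alt_four_two (hq : Fintype.card F = q) (h2 : (2 : F) = 0) (h3 : ¬ 3 ∣ q - 1) :
    ¬ ∃ H : Subgroup PSL(2, F), Nonempty (H ≃* alternatingGroup (Fin 4)) := by
  rintro ⟨H, ⟨φ⟩⟩
  let a : alternatingGroup (Fin 4) := ⟨Equiv.swap 0 1 * Equiv.swap 2 3, Equiv.Perm.mem_alternatingGroup.2 (by decide)⟩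
  let x : alternatingGroup (Fin 4) := ⟨Equiv.swap 0 1 * Equiv.swap 1 2, Equiv.Perm.mem_alternatingGroup.2 (by decide)⟩
  have ha : a * a = 1 := Subtype.ext (by decide)
  have hb : x * a * x⁻¹ * (x * a * x⁻¹) = 1 := by
    rw [show x * a * x⁻¹ * (x * a * x⁻¹) = x * (a * a) * x⁻¹ by simp [mul_assoc], ha]; simp
  have hab : a * (x * a * x⁻¹) = (x * a * x⁻¹) * a := Subtype.ext (by decide)
  have hne : a ≠ 1 := fun e => absurd (congrArg Subtype.val e) (by decide)
  have hx3 : x ^ 3 = 1 := Subtype.ext (by decide)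
  have hx1 : x ≠ 1 := fun e => absurd (congrArg Subtype.val e) (by decide)
  set ψ : alternatingGroup (Fin 4) →* PSL(2, F) := H.subtype.comp φ.symm.toMonoidHom with hψdef
  have hψ : Function.Injective ψ := Subtype.val_injective.comp φ.symm.injective
  obtain ⟨A, hA⟩ := π_surjective (ψ a)
  obtain ⟨X, hX⟩ := π_surjective (ψ x)
  have inj := π_injective_of_two h2
  have hA2 : A * A = 1 := inj (by rw [map_mul, hA, map_one, ← map_mul, ha, map_one])
  have hA1 : A ≠ 1 := fun e => hne (hψ (by rw [← hA, e, map_one, map_one]))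
  have hcomm : X * A * X⁻¹ ∈ cent A := by
    rw [mem_cent]
    apply inj
    simp only [map_mul, map_inv, hA, hX]
    simpa only [map_mul, map_inv] using congrArg ψ hab
  have hX3 : X ^ 3 = 1 := inj (by rw [map_pow, hX, map_one, ← map_pow, hx3, map_one])
  have hX1 : X ≠ 1 := fun e => hx1 (hψ (by rw [← hX, e, map_one, map_one]))
  have hAns : ¬ IsScal A := fun h => by
    rcases isScal_iff.1 h with e | e
    · exact hA1 e
    · exact hA1 (e.trans (neg_one_eq_one_of_two h2))
  let u : SL(2, F) := sl2 1 1 0 1 (by simp)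
  have htA := (mul_self_eq_one_iff_two h2).1 hA2
  obtain ⟨c, hc⟩ := isConj_iff.1 (isConj_of_tr_eq hAns (g := A) (h := u)
    (fun h => one_ne_zero (α := F) h.1) (Or.inr h2)
    (htA.trans (by simp [u, tr]; linear_combination (-1 : F) * h2)))
  set Y := c * X * c⁻¹ with hY
  have hYu : Y * u * Y⁻¹ ∈ cent u := by
    rw [mem_cent] at hcomm ⊢
    have e := congrArg (fun z => c * z * c⁻¹) hcomm
    rw [← hc, hY]
    simpa [mul_assoc] using e
  obtain ⟨s, r, e⟩ := exists_of_mem_cent (fun h => one_ne_zero (α := F) h.1) hYu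
  have k1 : (Y * u * Y⁻¹) 1 0 = -(Y 1 0 * Y 1 0) := by
    simp [u, sl2_mul, sl2_inv_00, sl2_inv_10]; ring
  have k2 : (Y * u * Y⁻¹) 1 0 = 0 := by rw [e 1 0]; simp [u]
  have hY10 : Y 1 0 = 0 := mul_self_eq_zero.1 (neg_eq_zero.1 (k1.symm.trans k2))
  have hY3 : Y ^ 3 = 1 := by rw [hY, conj_pow, hX3]; simp
  have hY00 : Y 0 0 ^ 3 = 1 := by
    have := congrArg (fun z : SL(2, F) => z 0 0) hY3
    simpa [pow_succ, sl2_mul, hY10] using this
  have h00 : Y 0 0 = 1 := by
    by_contra hne1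
    have h0 : Y 0 0 ≠ 0 := fun e => by simp [e] at hY00
    apply h3
    have ho : orderOf (Units.mk0 _ h0) = 3 :=
      @orderOf_eq_prime _ _ _ 3 ⟨Nat.prime_three⟩ (Units.ext (by simpa using hY00))
        (fun e => hne1 (by simpa using congrArg Units.val e))
    rw [← hq, ← Nat.card_eq_fintype_card, ← Nat.card_units, ← ho]
    exact orderOf_dvd_natCard _
  have hY11 : Y 1 1 = 1 := by
    have d := sl2_det Y
    rwa [hY10, mul_zero, sub_zero, h00, one_mul] at d
  have hY2 : Y * Y = 1 := (mul_self_eq_one_iff_two h2).2 (by simp [tr, h00, hY11]; linear_combination h2)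
  have hY1 : Y = 1 := by
    rw [pow_succ, sq, hY2, one_mul] at hY3
    exact hY3
  rw [hY] at hY1
  exact hX1 (by simpa using hY1)

/-- `A₅ ≤ PSL₂(q)` whenever `5 ∣ q (q² - 1)`. -/
lemma exists_alt_five (hq : Fintype.card F = q) (h5 : 5 ∣ q * (q ^ 2 - 1)) :
    ∃ H : Subgroup PSL(2, F), Nat.card H = 60 ∧ Nonempty (H ≃* alternatingGroup (Fin 5)) := by
  classical
  have : Fact (Nat.Prime 5) := ⟨by norm_num⟩
  obtain ⟨x, hx⟩ := exists_prime_orderOf_dvd_card' (G := SL(2, F)) 5 (by rwa [card_sl2 hq])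
  suffices h : ∃ x y : SL(2, F), π x ^ 5 = 1 ∧ π y ^ 2 = 1 ∧ (π x * π y) ^ 3 = 1 ∧ π x ≠ 1 by
    obtain ⟨x, y, h1, h2, h3, h4⟩ := h
    let H := Subgroup.closure ({π x, π y} : Set PSL(2, F))
    let x' : H := ⟨π x, Subgroup.subset_closure (Or.inl rfl)⟩
    let y' : H := ⟨π y, Subgroup.subset_closure (Or.inr rfl)⟩
    have : Nontrivial H := ⟨x', 1, fun e => h4 (congrArg Subtype.val e)⟩
    have hg : Subgroup.closure ({x', y'} : Set H) = ⊤ := by
      apply Subgroup.map_injective H.subtype_injective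
      rw [MonoidHom.map_closure, ← MonoidHom.range_eq_map, Subgroup.range_subtype, Set.image_pair]
      rfl
    exact ⟨H, nonempty_equiv_alternating_five_of_relations (x := x') (y := y') (Subtype.ext h1)
      (Subtype.ext h2) (Subtype.ext h3) hg⟩
  have hpow : ∀ g : SL(2, F), g ^ 3 = g * g * g := fun g => by simp [pow_succ, mul_assoc]
  have hcube : ∀ g : SL(2, F), tr g = 1 → π g ^ 3 = 1 := fun g hg => by
    rw [← map_pow, π_eq_one_iff]
    right
    rw [hpow]
    apply sl2_ext <;> simp [sl2_mul, sl2_neg] <;>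
      (have d := sl2_det g; simp only [tr] at hg; grind)
  by_cases hp : (5 : F) = 0
  · let u : SL(2, F) := sl2 1 1 0 1 (by simp)
    let w : SL(2, F) := sl2 0 (-1) 1 0 (by simp)
    have : CharP F 5 := (CharP.charP_iff_prime_eq_zero (p := 5) (by norm_num)).2 (by exact_mod_cast hp)
    refine ⟨u, w, ?_, ?_, ?_, ?_⟩
    · rw [← map_pow, pow_char_of_tr_two 5 (show tr u = 2 by simp [u, tr]; norm_num), map_one]
    · rw [← map_pow, π_eq_one_iff]
      right
      rw [sq]
      apply sl2_ext <;> simp [w, sl2_mul, sl2_neg]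
    · rw [← map_mul]
      exact hcube _ (by simp [u, w, tr, sl2_mul])
    · rw [Ne, π_eq_one_iff_isScal]
      exact fun h => one_ne_zero (α := F) h.1
  · set t := tr x with ht
    have hns : ¬ IsScal x := fun h => by
      rcases isScal_iff.1 h with e | e
      · rw [e, orderOf_one] at hx; norm_num at hx
      · have h1 : orderOf x ∣ 2 := orderOf_dvd_of_pow_eq_one (by rw [e]; simp)
        rw [hx] at h1; norm_num at h1
    have htt : t ^ 2 + t - 1 = 0 := by
      have h5' : x ^ 5 = 1 := hx ▸ pow_orderOf_eq_one x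
      have hc : ∀ i j : Fin 2, (x ^ 5) i j =
          (t ^ 4 - 3 * t ^ 2 + 1) * x i j - (t ^ 3 - 2 * t) * (1 : SL(2, F)) i j := by
        intro i j
        have d := sl2_det x
        have e := sl2_sq x
        rw [show x ^ 5 = x * x * (x * x) * x by simp [pow_succ, mul_assoc]]
        simp only [sl2_mul (x * x * (x * x)), sl2_mul (x * x) (x * x), e, ← ht]
        simp only [tr] at ht
        fin_cases i <;> fin_cases j <;> simp <;> grind
      rw [h5'] at hc
      have c00 := hc 0 0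
      have c11 := hc 1 1
      have c01 := hc 0 1
      have c10 := hc 1 0
      simp at c00 c11 c01 c10
      have hA : t ^ 4 - 3 * t ^ 2 + 1 = 0 := by
        by_contra hA
        exact hns ⟨c01.resolve_left hA, c10.resolve_left hA,
          mul_left_cancel₀ hA (by linear_combination c11 - c00)⟩
      have hB : (t - 1) * (t ^ 2 + t - 1) = 0 := by
        rw [hA, zero_mul, zero_sub] at c00
        linear_combination c00
      rcases mul_eq_zero.1 hB with h | h
      · exfalso
        rw [sub_eq_zero.1 h] at hA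
        exact one_ne_zero (α := F) (by linear_combination (-1 : F) * hA)
      · exact h
    have hD : t ^ 2 - 4 ≠ 0 := by
      intro h
      apply hp
      linear_combination (t - 2) * h - (t - 3) * htt
    obtain ⟨c, hc⟩ := isConj_iff.1 (isConj_comp hns (Or.inl (by
      intro h; exact hD (sub_eq_zero.2 h))))
    set a₀ := t / (4 - t ^ 2) with ha₀
    set c₀ := -2 / (4 - t ^ 2) with hc₀
    obtain ⟨A, C, hAC⟩ := exists_rep (1 : F) t 1
      (-(a₀ ^ 2 + t * a₀ * c₀ + c₀ ^ 2 + c₀ + 1)) (by simp)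
      (Or.inl (by rw [mul_one, mul_one]; exact hD))
    set a := A + a₀
    set cc := C + c₀
    have hD' : (4 : F) - t ^ 2 ≠ 0 := fun h => hD (by linear_combination (-1 : F) * h)
    have e1 : 2 * a₀ + t * c₀ = 0 := by rw [ha₀, hc₀]; field_simp; ring
    have e2 : t * a₀ + 2 * c₀ + 1 = 0 := by rw [ha₀, hc₀]; field_simp; ring
    have hdet : a * (-a) - (1 + cc + t * a) * cc = 1 := by
      linear_combination (-1 : F) * hAC - A * e1 - C * e2
    let y : SL(2, F) := sl2 a (1 + cc + t * a) cc (-a) hdet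
    refine ⟨comp t, y, ?_, ?_, ?_, ?_⟩
    · have hxe : x ^ 5 = 1 := hx ▸ pow_orderOf_eq_one x
      rw [← hc, conj_pow, mul_inv_eq_one, mul_eq_left] at hxe
      rw [← map_pow, hxe, map_one]
    · rw [← map_pow, π_eq_one_iff]
      right
      rw [sq]
      apply sl2_ext <;> simp [sl2_sq, y, tr, sl2_neg]
    · rw [← map_mul]
      refine hcube _ ?_
      simp [tr, sl2_mul, comp, y]
      try ring
    · rw [Ne, π_eq_one_iff_isScal]
      exact not_isScal_comp t

end Cfsg.Agent.H6
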