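import Cfsg.Agent.H6.Applications

/-!
# Maximality of the dihedral normalisers of tori
-/

set_option autoImplicit false

open Matrix MatrixGroups

namespace Cfsg.Agent.H6

lemma alt_four_pow : ∀ x : alternatingGroup (Fin 4), x ^ 2 = 1 ∨ x ^ 3 = 1 := by decide

lemma alt_four_no_inversion :
    ∀ x w : alternatingGroup (Fin 4), x ^ 3 = 1 → x ≠ 1 → w * x * w⁻¹ ≠ x⁻¹ := by decide

set_option maxRecDepth 100000 in
lemma perm_four_pow : ∀ x : Equiv.Perm (Fin 4), x ^ 3 = 1 ∨ x ^ 4 = 1 := by decide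

set_option maxRecDepth 100000 in
lemma alt_five_pow : ∀ x : alternatingGroup (Fin 5), x ^ 2 = 1 ∨ x ^ 3 = 1 ∨ x ^ 5 = 1 := by
  decide +kernel

variable {F : Type*} [Field F] [Fintype F]

/-- Two dihedral normalisers, one inside the other up to order, have the same order. -/
lemma card_tor_eq_of_dvd {q : ℕ} (hq : Fintype.card F = q) {g g' : SL(2, F)} (ht : tr g ^ 2 ≠ 4)
    (ht' : tr g' ^ 2 ≠ 4) (hn : 3 ≤ Nat.card (tor g)) (h : Nat.card (tor g) ∣ Nat.card (tor g')) :
    Nat.card (tor g) = Nat.card (tor g') := by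
  have hq2 : 2 ≤ q := hq ▸ Fintype.one_lt_card
  have h1 := card_tor_mul hq g
  have h1' := card_tor_mul hq g'
  have h2 := Nat.mul_dvd_mul h (dvd_refl (Nat.gcd 2 (q - 1)))
  rw [h1, h1'] at h2
  have hd := Nat.gcd_le_left (q - 1) two_pos
  have hd0 : 0 < Nat.gcd 2 (q - 1) := Nat.gcd_pos_of_pos_left _ two_pos
  refine Nat.eq_of_mul_eq_mul_right hd0 ?_
  rw [h1, h1']
  by_contra hne
  have h3 : Nat.card (tor g) * 1 ≤ Nat.card (tor g) * Nat.gcd 2 (q - 1) := Nat.mul_le_mul_left _ hd0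
  rw [mul_one, h1] at h3
  rcases card_cent_ss ht with ⟨-, e⟩ | ⟨-, e⟩ <;>
    rcases card_cent_ss ht' with ⟨-, e'⟩ | ⟨-, e'⟩ <;>
    rw [e, hq] at h2 h3 hne <;> rw [e', hq] at h2 hne
  · exact hne rfl
  · obtain ⟨t, ht⟩ := h2
    have : t < 2 := by
      by_contra h4
      have := Nat.mul_le_mul_left (q - 1) (not_lt.1 h4)
      omega
    interval_cases t <;> omega
  · have := Nat.le_of_dvd (by omega) h2
    omega
  · exact hne rfl

/-- The dihedral normaliser of a torus is maximal. -/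
theorem isCoatom_torDih {q : ℕ} (hq : Fintype.card F = q) {g : SL(2, F)} (ht : tr g ^ 2 ≠ 4)
    (hq3 : 3 ≤ q) (hn3 : 3 ≤ Nat.card (tor g)) (hodd : q % 2 = 1 → 6 ≤ Nat.card (tor g) ∨ q = 5) :
    IsCoatom (torDih g) := by
  classical
  obtain ⟨p, hpc⟩ := CharP.exists F
  have := Fact.mk (CharP.char_is_prime F p)
  obtain ⟨e, hp, he⟩ := FiniteField.card F p
  rw [hq] at he
  have hq2 : 2 ≤ q := hq ▸ Fintype.one_lt_card
  have hpq : p ∣ q := he ▸ dvd_pow_self p e.ne_zero
  set n := Nat.card (tor g) with hn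
  have hcardD : Nat.card (torDih g) = 2 * n := card_torDih ht
  have hpsl := card_psl2_mul (F := F) hq
  have hsq : q ^ 2 - 1 = (q + 1) * (q - 1) := by rw [← Nat.sq_sub_sq, one_pow]
  have hne : torDih g ≠ ⊤ := by
    intro h
    rw [h, Subgroup.card_top] at hcardD
    rw [hcardD, mul_assoc, hn, card_tor_mul hq g, hsq] at hpsl
    have h6 : 3 * ((q + 1) * 2) ≤ q * ((q + 1) * (q - 1)) :=
      Nat.mul_le_mul hq3 (Nat.mul_le_mul_left _ (by omega))
    rcases card_cent_ss ht with ⟨-, e'⟩ | ⟨-, e'⟩ <;> rw [e', hq] at hpsl <;> omega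
  refine ⟨hne, fun H hlt => ?_⟩
  by_contra htop
  -- the rotation and the inversion
  have := tor_cyclic ht
  obtain ⟨x0, hx0⟩ := IsCyclic.exists_ofOrder_eq_natCard (α := tor g)
  obtain ⟨w, hwD, hwt⟩ : ∃ w ∈ torDih g, w ∉ tor g := by
    by_contra hcon
    push Not at hcon
    have := Subgroup.card_le_of_le (show torDih g ≤ tor g from hcon)
    omega
  obtain ⟨-, -, hinv⟩ := outside_torDih ht hwD hwt
  set x : PSL(2, F) := x0.1 with hxdef
  have hxo : orderOf x = n := by rw [hxdef, Subgroup.orderOf_coe, hx0]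
  have hxH : x ∈ H := hlt.le (tor_le_torDih g x0.2)
  have hwH : w ∈ H := hlt.le hwD
  have hx1 : x ≠ 1 := fun h => by rw [h, orderOf_one] at hxo; omega
  have hx2 : x * x ≠ 1 := fun h => by
    have := orderOf_le_of_pow_eq_one two_pos (show x ^ 2 = 1 by rw [sq, h])
    omega
  have hxinv : w * x * w⁻¹ = x⁻¹ := hinv x x0.2
  obtain ⟨c, hc⟩ := exists_outcome p H
  let f := (MulAut.conj c).toMonoidHom
  have hfinj : Function.Injective f := (MulAut.conj c).injective
  have hfx : f x ∈ cj c H := Subgroup.mem_map_of_mem _ hxH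
  have hfw : f w ∈ cj c H := Subgroup.mem_map_of_mem _ hwH
  have hfo : orderOf (f x) = n := (orderOf_injective f hfinj x).trans hxo
  have hfinv : f w * f x * (f w)⁻¹ = (f x)⁻¹ := by
    rw [← map_inv, ← map_mul, ← map_mul, hxinv, map_inv]
  have hDdvd : 2 * n ∣ Nat.card H := hcardD ▸ Subgroup.card_dvd_of_le hlt.le
  have hHlt : 2 * n < Nat.card H := by
    refine lt_of_le_of_ne (Nat.le_of_dvd Nat.card_pos hDdvd) fun h => hlt.ne ?_
    exact Subgroup.eq_of_le_of_card_ge hlt.le (by rw [hcardD, h])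
  cases hc with
  | triv h => rw [card_cj] at h; omega
  | dih h =>
    obtain ⟨g', ht', hle⟩ := h
    have h1 := Subgroup.card_dvd_of_le hle
    rw [card_cj, card_torDih ht'] at h1
    have h2 := card_tor_eq_of_dvd hq ht ht' hn3
      (Nat.dvd_of_mul_dvd_mul_left two_pos (hDdvd.trans h1))
    have := Nat.le_of_dvd (Nat.mul_pos two_pos Nat.card_pos) h1
    omega
  | bor h =>
    obtain ⟨d, hd⟩ := h
    rw [cj_cj] at hd
    let F' := (MulAut.conj (d * c)).toMonoidHom
    have hb : ∀ y ∈ H, F' y ∈ borel F := fun y hy => hd (Subgroup.mem_map_of_mem _ hy)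
    have hcomm : chiB ⟨F' x, hb x hxH⟩ = chiB ⟨F' x⁻¹, hb _ (inv_mem hxH)⟩ := by
      have e1 : (⟨F' x⁻¹, hb _ (inv_mem hxH)⟩ : borel F) =
          ⟨F' w, hb w hwH⟩ * ⟨F' x, hb x hxH⟩ * ⟨F' w, hb w hwH⟩⁻¹ :=
        Subtype.ext (by
          show F' x⁻¹ = F' w * F' x * (F' w)⁻¹
          rw [← map_inv F' w, ← map_mul, ← map_mul, hxinv])
      rw [e1, map_mul, map_mul, map_inv, mul_inv_cancel_comm]
    have hone : chiB ⟨F' (x * x), hb _ (mul_mem hxH hxH)⟩ = 1 := by
      have e1 : (⟨F' (x * x), hb _ (mul_mem hxH hxH)⟩ : borel F) =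
          ⟨F' x, hb x hxH⟩ * ⟨F' x⁻¹, hb _ (inv_mem hxH)⟩⁻¹ :=
        Subtype.ext (by
          show F' (x * x) = F' x * (F' x⁻¹)⁻¹
          rw [map_inv, inv_inv, map_mul])
      rw [e1, map_mul, map_inv, ← hcomm, mul_inv_cancel]
    have hU := (chiB_eq_one_iff _).1 hone
    refine not_isSS_of_mem_isUni isUni_Uinf hU ?_
    show IsSS ((d * c) * (x * x) * (d * c)⁻¹)
    exact isSS_conj (isSS_of_mem_isTor ⟨g, ht, rfl⟩ (mul_mem x0.2 x0.2) hx2)
  | a4 h e' =>
    obtain ⟨e'⟩ := e'
    set X := e' ⟨f x, hfx⟩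
    have hXo : orderOf X = n := by rw [MulEquiv.orderOf_eq, ← Subgroup.orderOf_coe]; exact hfo
    have hle : n ≤ 3 := by
      rcases alt_four_pow X with h' | h'
      · have := orderOf_le_of_pow_eq_one two_pos h'; omega
      · have := orderOf_le_of_pow_eq_one three_pos h'; omega
    have hX3 : X ^ 3 = 1 := by
      have := pow_orderOf_eq_one X
      rwa [hXo, show n = 3 by omega] at this
    refine alt_four_no_inversion X (e' ⟨f w, hfw⟩) hX3 (fun h' => ?_) ?_
    · rw [h', orderOf_one] at hXo; omega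
    · rw [← map_inv, ← map_inv, ← map_mul, ← map_mul]
      exact congrArg e' (Subtype.ext hfinv)
  | s4 h e' hnd =>
    obtain ⟨e'⟩ := e'
    set X := e' ⟨f x, hfx⟩
    have hXo : orderOf X = n := by rw [MulEquiv.orderOf_eq, ← Subgroup.orderOf_coe]; exact hfo
    have hle : n ≤ 4 := by
      rcases perm_four_pow X with h' | h'
      · have := orderOf_le_of_pow_eq_one three_pos h'; omega
      · have := orderOf_le_of_pow_eq_one four_pos h'; omega
    have hp2 : p ≠ 2 := fun h' => hnd (by rw [h, h']; norm_num)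
    have hqo : q % 2 = 1 := by rw [he]; exact Nat.odd_iff.1 (hp.odd_of_ne_two hp2).pow
    rcases hodd hqo with h6 | h5
    · omega
    · have hdd := Subgroup.card_subgroup_dvd_card (cj c H)
      rw [h] at hdd
      rw [h5] at hpsl
      norm_num [-Nat.card_eq_fintype_card] at hpsl
      have h60 : Nat.card PSL(2, F) = 60 := by omega
      rw [h60] at hdd
      norm_num at hdd
  | a5 h e' h3 =>
    obtain ⟨e'⟩ := e'
    set X := e' ⟨f x, hfx⟩
    have hXo : orderOf X = n := by rw [MulEquiv.orderOf_eq, ← Subgroup.orderOf_coe]; exact hfo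
    have hle : n ≤ 5 := by
      rcases alt_five_pow X with h' | h' | h'
      · have := orderOf_le_of_pow_eq_one two_pos h'; omega
      · have := orderOf_le_of_pow_eq_one three_pos h'; omega
      · have := orderOf_le_of_pow_eq_one (by norm_num : 0 < 5) h'; omega
    have hp2 : p ≠ 2 := fun h' => by have := h3 (by rw [h, h']; norm_num); omega
    have hqo : q % 2 = 1 := by rw [he]; exact Nat.odd_iff.1 (hp.odd_of_ne_two hp2).pow
    rcases hodd hqo with h6 | h5
    · omega
    · have hp5 : p = 5 :=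
        (Nat.prime_dvd_prime_iff_eq hp (by norm_num)).1 (h5 ▸ hpq)
      have := h3 (by rw [h, hp5]; norm_num)
      omega
  | gen h =>
    obtain ⟨r, k, hG⟩ := h
    obtain ⟨K, hKr, -, -⟩ := gen_structure hG
    obtain ⟨-, -, -, hk1, hkr, hcard, -, hord⟩ := hG
    have hnr : n ≤ r + 1 := hfo ▸ hord _ hfx
    have := Fintype.ofFinite K
    have hrm : r ^ Module.finrank K F = q := by
      rw [← hKr, Nat.card_eq_fintype_card, ← Module.card_eq_pow_finrank, hq]
    set m := Module.finrank K F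
    have hm0 : m ≠ 0 := fun e' => by rw [e', pow_zero] at hrm; omega
    have hd := Nat.gcd_le_left (q - 1) two_pos
    by_cases hm1 : m = 1
    · rw [hm1, pow_one] at hrm
      subst hrm
      apply htop
      refine Subgroup.eq_top_of_le_card _ ?_
      rw [← card_cj c H, hcard]
      rw [hsq] at hpsl
      rcases Nat.mod_two_eq_zero_or_one r with hpar | hpar
      · rw [show r - 1 = k by omega, (Nat.prime_two.coprime_iff_not_dvd).2 (by omega)] at hpsl
        nlinarith [hpsl]
      · rw [Nat.gcd_eq_left (show 2 ∣ r - 1 by omega)] at hpsl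
        have := Nat.mul_le_mul_left (r * (r + 1)) (show r - 1 ≤ 2 * k by omega)
        nlinarith [hpsl]
    · have hr3 : 3 ≤ r := by omega
      have hr2q : r ^ 2 ≤ q := hrm ▸ Nat.pow_le_pow_right (by omega) (by omega)
      have hr4 : 3 * r ≤ r ^ 2 := by rw [sq]; exact Nat.mul_le_mul_right r hr3
      by_cases hr : r = 3
      · have hqo : q % 2 = 1 := by
          rw [← hrm, hr]; exact Nat.odd_iff.1 (Odd.pow ⟨1, rfl⟩)
        rcases hodd hqo with h6 | h5
        · omega
        · omega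
      · have hr5 : 4 * r ≤ r ^ 2 := by rw [sq]; exact Nat.mul_le_mul_right r (by omega)
        have h1 := card_tor_mul hq g
        have h2 : n * Nat.gcd 2 (q - 1) ≤ n * 2 := Nat.mul_le_mul_left _ hd
        rw [hn, h1] at h2
        rcases card_cent_ss ht with ⟨-, e'⟩ | ⟨-, e'⟩ <;> rw [e', hq] at h2 <;> omega

end Cfsg.Agent.H6
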