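import Cfsg.Agent.H6.SubfieldMaps

/-!
# Functoriality of `PSL₂`, `PGL₂` in the field
-/

set_option autoImplicit false

open Matrix MatrixGroups

namespace Cfsg.Agent.H6

variable {K L : Type*} [Field K] [Field L]

lemma pslMap_comp_apply {M : Type*} [Field M] (f : K →+* L) (g : L →+* M) (x : PSL(2, K)) :
    pslMap g (pslMap f x) = pslMap (g.comp f) x := by
  obtain ⟨z, rfl⟩ := π_surjective x
  exact congrArg π (by apply sl2_ext <;> rfl)

lemma pslMap_id_apply (x : PSL(2, K)) : pslMap (RingHom.id K) x = x := by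
  obtain ⟨z, rfl⟩ := π_surjective x
  exact congrArg π (by apply sl2_ext <;> rfl)

/-- `PSL₂` of isomorphic fields. -/
def pslEquiv (e : K ≃+* L) : PSL(2, K) ≃* PSL(2, L) :=
  { pslMap e.toRingHom with
    invFun := pslMap e.symm.toRingHom
    left_inv := fun x => by
      show pslMap e.symm.toRingHom (pslMap e.toRingHom x) = x
      rw [pslMap_comp_apply, e.symm_toRingHom_comp_toRingHom, pslMap_id_apply]
    right_inv := fun x => by
      show pslMap e.toRingHom (pslMap e.symm.toRingHom x) = x
      rw [pslMap_comp_apply, e.toRingHom_comp_symm_toRingHom, pslMap_id_apply] }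

/-- `PGL₂` of isomorphic fields. -/
def pglEquiv (e : K ≃+* L) : PGL(2, K) ≃* PGL(2, L) :=
  { Matrix.ProjGenLinGroup.map e.toRingHom with
    invFun := Matrix.ProjGenLinGroup.map e.symm.toRingHom
    left_inv := fun x => by
      show Matrix.ProjGenLinGroup.map e.symm.toRingHom (Matrix.ProjGenLinGroup.map e.toRingHom x) = x
      rw [← MonoidHom.comp_apply, ← Matrix.ProjGenLinGroup.map_comp,
        e.symm_toRingHom_comp_toRingHom, Matrix.ProjGenLinGroup.map_id]
      rfl
    right_inv := fun x => by
      show Matrix.ProjGenLinGroup.map e.toRingHom (Matrix.ProjGenLinGroup.map e.symm.toRingHom x) = x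
      rw [← MonoidHom.comp_apply, ← Matrix.ProjGenLinGroup.map_comp,
        e.toRingHom_comp_symm_toRingHom, Matrix.ProjGenLinGroup.map_id]
      rfl }

/-- A finite field has a copy in the lowest universe. -/
lemma exists_ringEquiv_type [Fintype K] : ∃ (K₀ : Type) (_ : Field K₀) (_ : Fintype K₀),
    Nonempty (K ≃+* K₀) := by
  obtain ⟨p, hpc⟩ := CharP.exists K
  have := Fact.mk (CharP.char_is_prime K p)
  obtain ⟨n, -, hn⟩ := FiniteField.card K p
  have := Fintype.ofFinite (GaloisField p n)
  refine ⟨GaloisField p n, inferInstance, inferInstance, ⟨FiniteField.ringEquivOfCardEq ?_⟩⟩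
  rw [hn, ← Nat.card_eq_fintype_card, GaloisField.card p n n.ne_zero]

end Cfsg.Agent.H6
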