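import Cfsg.Agent.H6.GenStructure
import Cfsg.Agent.H6.FieldEquiv

/-!
# Consequences of Dickson's list
-/

set_option autoImplicit false

open Matrix MatrixGroups

namespace Cfsg.Agent.H6

variable {F : Type*} [Field F] [Fintype F] (p : ℕ) [Fact p.Prime] [CharP F p]

/-- `Uinf` is a Sylow `p`-subgroup. -/
lemma exists_sylow_Uinf : ∃ P : Sylow p PSL(2, F), (P : Subgroup PSL(2, F)) = Uinf F := by
  obtain ⟨n, hp, hn⟩ := FiniteField.card F p
  have hP : IsPGroup p (Uinf F) := IsPGroup.of_card (n := n) (by rw [card_Uinf, hn])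
  refine ⟨hP.toSylow ?_, rfl⟩
  intro hd
  have h := (Uinf F).card_mul_index
  have h2 := card_psl2_mul (F := F) (q := Fintype.card F) rfl
  rw [← h, card_Uinf, mul_assoc] at h2
  have h3 := Nat.eq_of_mul_eq_mul_left (Fintype.card_pos) h2
  have h4 : p ∣ Fintype.card F ^ 2 - 1 := h3 ▸ hd.mul_right _
  have h5 : p ∣ Fintype.card F ^ 2 :=
    (hn ▸ dvd_pow_self p n.ne_zero : p ∣ Fintype.card F).trans (dvd_pow_self _ two_ne_zero)
  have h6 : 1 ≤ Fintype.card F ^ 2 := Nat.one_le_pow _ _ Fintype.card_pos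
  have := Nat.dvd_sub h5 h4
  rw [show Fintype.card F ^ 2 - (Fintype.card F ^ 2 - 1) = 1 by omega] at this
  exact hp.one_lt.ne' (Nat.dvd_one.1 this)

omit [Fintype F] in
lemma cjEquiv_exists (c : PSL(2, F)) (H : Subgroup PSL(2, F)) : Nonempty (H ≃* cj c H) :=
  ⟨Subgroup.equivMapOfInjective H (MulAut.conj c).toMonoidHom (MulEquiv.injective _)⟩

/-- A subgroup of a dihedral normaliser is cyclic or dihedral. -/
lemma cyclic_or_dihedral_of_le_torDih {H : Subgroup PSL(2, F)} {g : SL(2, F)} (ht : tr g ^ 2 ≠ 4)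
    (hle : H ≤ torDih g) :
    ∃ k : ℕ, k ∣ Nat.card (tor g) ∧
      ((IsCyclic H ∧ Nat.card H = k ∧ H ≤ tor g) ∨ Nonempty (H ≃* DihedralGroup k)) := by
  classical
  have := tor_cyclic ht
  refine ⟨Nat.card (H ⊓ tor g : Subgroup PSL(2, F)), Subgroup.card_dvd_of_le inf_le_right, ?_⟩
  by_cases hall : H ≤ tor g
  · refine Or.inl ⟨isCyclic_of_injective (Subgroup.inclusion hall) (Subgroup.inclusion_injective hall),
      by rw [inf_eq_left.2 hall], hall⟩
  · right
    obtain ⟨w, hwH, hwt⟩ := SetLike.not_le_iff_exists.1 hall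
    obtain ⟨hw2, -, hwinv⟩ := outside_torDih ht (hle hwH) hwt
    have hC : IsCyclic (H ⊓ tor g : Subgroup PSL(2, F)) :=
      isCyclic_of_injective (Subgroup.inclusion inf_le_right) (Subgroup.inclusion_injective inf_le_right)
    obtain ⟨c, hc⟩ := IsCyclic.exists_ofOrder_eq_natCard (α := (H ⊓ tor g : Subgroup PSL(2, F)))
    refine nonempty_equiv_dihedral Nat.card_pos.ne' (c := ⟨c, c.2.1⟩) (w := ⟨w, hwH⟩) ?_
      (Subtype.ext hw2) (Subtype.ext (hwinv _ c.2.2)) ?_ ?_
    · rw [← hc, ← Subgroup.orderOf_coe, ← Subgroup.orderOf_coe]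
    · rintro ⟨i, hi⟩
      have hi' : (c : PSL(2, F)) ^ i = w := congrArg Subtype.val hi
      exact hwt (hi' ▸ Subgroup.zpow_mem _ c.2.2 i)
    · rcases nH_tor (H := H) (M := tor g) ⟨g, ht, rfl⟩ with e | e
      · exfalso
        exact hwt (mem_of_nH_eq e hwH (by rw [normalizer_tor ht]; exact hle hwH))
      · rw [nH, mH, normalizer_tor ht, inf_eq_left.2 hle, inf_comm (tor g)] at e
        exact e

end Cfsg.Agent.H6

namespace Cfsg.Agent.H6

section borel

variable {F : Type*} [Field F] [Fintype F]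

/-- Order of the Borel subgroup. -/
lemma card_borel_mul {q : ℕ} (hq : Fintype.card F = q) :
    Nat.card (borel F) * Nat.gcd 2 (q - 1) = q * (q - 1) := by
  have h := card_map_π (center_le_upperSL (F := F))
  rw [card_center_sl2 hq] at h
  rw [borel, h]
  have e : upperSL F ≃ F × Fˣ :=
    { toFun := fun g => (g.1 0 1, ⟨g.1 0 0, g.1 1 1, by
          have d := sl2_det g.1
          rwa [(g.2 : g.1 1 0 = 0), mul_zero, sub_zero] at d, by
          have d := sl2_det g.1
          rwa [(g.2 : g.1 1 0 = 0), mul_zero, sub_zero, mul_comm] at d⟩)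
      invFun := fun x => ⟨sl2 (x.2 : F) x.1 0 ((x.2⁻¹ : Fˣ) : F) (by simp), rfl⟩
      left_inv := fun g => Subtype.ext (by
        apply sl2_ext <;> first | rfl | exact (g.2 : g.1 1 0 = 0).symm)
      right_inv := fun x => Prod.ext rfl (Units.ext rfl) }
  rw [Nat.card_congr e, Nat.card_prod, Nat.card_units, Nat.card_eq_fintype_card, hq]

/-- The Borel subgroup has index `q + 1`. -/
lemma index_borel {q : ℕ} (hq : Fintype.card F = q) : (borel F).index = q + 1 := by
  have h1 := (borel F).card_mul_index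
  have h2 := card_borel_mul (F := F) hq
  have h3 := card_psl2_mul (F := F) hq
  have hq2 : 2 ≤ q := hq ▸ Fintype.one_lt_card
  rw [← h1, mul_right_comm, h2, show q ^ 2 - 1 = (q + 1) * (q - 1) by
    rw [← Nat.sq_sub_sq, one_pow], show q * ((q + 1) * (q - 1)) = q * (q - 1) * (q + 1) by ring] at h3
  exact Nat.eq_of_mul_eq_mul_left (Nat.mul_pos (by omega) (by omega)) h3

end borel

end Cfsg.Agent.H6
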