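import Cfsg.Agent.H6.PSL

/-!
# Unipotent elements and Borel subgroups of `PSL₂(q)`
-/

set_option autoImplicit false

open Matrix MatrixGroups

namespace Cfsg.Agent.H6

variable {F : Type*} [Field F]

/-- Upper unitriangular element. -/
def up (a : F) : SL(2, F) := sl2 1 a 0 1 (by simp)

/-- Lower unitriangular element. -/
def lo (b : F) : SL(2, F) := sl2 1 0 b 1 (by simp)

lemma up_add (a b : F) : up (a + b) = up a * up b := by
  apply sl2_ext <;> simp [up, sl2_mul, add_comm]

lemma up_zero : up (0 : F) = 1 := by apply sl2_ext <;> simp [up]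

lemma tr_up (a : F) : tr (up a) = 2 := by simp [up, tr]; norm_num

/-- The upper unitriangular group as a homomorphism into `PSL₂`. -/
def upHom : Multiplicative F →* PSL(2, F) where
  toFun a := π (up (Multiplicative.toAdd a))
  map_one' := by simp [up_zero]
  map_mul' a b := by simp [up_add]

lemma upHom_injective : Function.Injective (upHom (F := F)) := by
  intro a b h
  rcases π_eq_iff.1 h with e | e
  · exact congrArg (fun g : SL(2, F) => g 0 1) e
  · have h00 := congrArg (fun g : SL(2, F) => g 0 0) e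
    have h01 := congrArg (fun g : SL(2, F) => g 0 1) e
    simp [up, sl2_neg] at h00 h01
    have hb : b.toAdd = -b.toAdd := by linear_combination b.toAdd * h00
    exact h01.trans hb.symm

/-- The standard unipotent subgroup of `PSL₂`. -/
def Uinf (F : Type*) [Field F] : Subgroup PSL(2, F) := (upHom (F := F)).range

lemma mem_Uinf {x : PSL(2, F)} : x ∈ Uinf F ↔ ∃ a : F, π (up a) = x :=
  ⟨fun ⟨a, ha⟩ => ⟨Multiplicative.toAdd a, ha⟩, fun ⟨a, ha⟩ => ⟨Multiplicative.ofAdd a, ha⟩⟩

lemma π_up_eq_iff {a b : F} : π (up a) = π (up b) ↔ a = b :=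
  ⟨fun h => Multiplicative.ofAdd.injective (upHom_injective (a₁ := Multiplicative.ofAdd a)
    (a₂ := Multiplicative.ofAdd b) h), fun h => by rw [h]⟩

lemma π_up_eq_one_iff {a : F} : π (up a) = 1 ↔ a = 0 := by
  rw [← map_one (π (F := F)), ← up_zero, π_up_eq_iff]

lemma not_isScal_up {a : F} (ha : a ≠ 0) : ¬ IsScal (up a) := fun h => ha h.1

lemma tor_up {a : F} (ha : a ≠ 0) : tor (up a) = Uinf F := by
  ext x
  constructor
  · rintro ⟨h, hh, rfl⟩
    obtain ⟨s, r, e⟩ := exists_of_mem_cent (not_isScal_up ha) hh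
    have d := sl2_det h
    simp [e, up] at d
    rcases mul_self_eq_one_iff.1 (show (s + r) * (s + r) = 1 by linear_combination d) with hs | hs
    · refine mem_Uinf.2 ⟨r * a, π_eq_iff.2 (Or.inl ?_)⟩
      apply sl2_ext <;> simp [up, e, hs]
    · refine mem_Uinf.2 ⟨-(r * a), π_eq_iff.2 (Or.inr ?_)⟩
      apply sl2_ext <;> simp [up, sl2_neg, e, hs]
  · intro hx
    obtain ⟨b, rfl⟩ := mem_Uinf.1 hx
    refine mem_tor.2 (mem_cent.2 ?_)
    rw [← up_add, ← up_add, add_comm]

/-- The standard Borel subgroup of `SL₂`. -/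
def upperSL (F : Type*) [Field F] : Subgroup SL(2, F) where
  carrier := {g | g 1 0 = 0}
  one_mem' := by simp
  mul_mem' := fun {g h} hg hh => by
    simp only [Set.mem_setOf_eq] at hg hh ⊢
    simp [sl2_mul, hg, hh]
  inv_mem' := fun {g} hg => by
    simp only [Set.mem_setOf_eq] at hg ⊢
    simp [sl2_inv_10, hg]

lemma mem_upperSL {g : SL(2, F)} : g ∈ upperSL F ↔ g 1 0 = 0 := Iff.rfl

/-- The standard Borel subgroup of `PSL₂`. -/
def borel (F : Type*) [Field F] : Subgroup PSL(2, F) := (upperSL F).map π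

lemma center_le_upperSL : Subgroup.center SL(2, F) ≤ upperSL F :=
  fun _ hg => (mem_center_iff_isScal.1 hg).2.1

lemma mem_borel {g : SL(2, F)} : π g ∈ borel F ↔ g 1 0 = 0 := mem_map_π center_le_upperSL

lemma Uinf_le_borel : Uinf F ≤ borel F := fun x hx => by
  obtain ⟨a, rfl⟩ := mem_Uinf.1 hx
  exact mem_borel.2 rfl

/-- The square of the diagonal entry, as a character of the Borel subgroup. -/
noncomputable def chiSL : upperSL F →* Fˣ where
  toFun g := Units.mk0 ((g.1 0 0) ^ 2) (pow_ne_zero 2 fun e => by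
    have d := sl2_det g.1
    rw [e, (g.2 : g.1 1 0 = 0)] at d
    simp at d)
  map_one' := by ext; simp
  map_mul' g h := by
    ext
    have hh := mem_upperSL.1 h.2
    simp [sl2_mul, hh, mul_pow]

lemma chiSL_val (g : upperSL F) : (chiSL g : F) = (g.1 0 0) ^ 2 := rfl

lemma π_eq_up_of_chi {g : SL(2, F)} (hg : g 1 0 = 0) (h : (g 0 0) ^ 2 = 1) :
    π g ∈ Uinf F := by
  have d := sl2_det g
  rw [hg, mul_zero, sub_zero] at d
  rcases mul_self_eq_one_iff.1 (show g 0 0 * g 0 0 = 1 by rw [← sq]; exact h) with e | e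
  · refine mem_Uinf.2 ⟨g 0 1, π_eq_iff.2 (Or.inl ?_)⟩
    apply sl2_ext <;> simp [up, hg, e]
    rw [e, one_mul] at d
    exact d.symm
  · refine mem_Uinf.2 ⟨-g 0 1, π_eq_iff.2 (Or.inr ?_)⟩
    apply sl2_ext <;> simp [up, sl2_neg, hg, e]
    rw [e] at d
    linear_combination (-1 : F) * d

/-- A non-scalar element with `t² = 4` is conjugate in `SL₂` into `± Uinf`. -/
lemma exists_conj_up [Fintype F] {g : SL(2, F)} (hns : ¬ IsScal g) (ht : tr g ^ 2 = 4) :
    ∃ (c : SL(2, F)) (a : F), a ≠ 0 ∧ π (c * g * c⁻¹) = π (up a) := by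
  have key : ∀ g : SL(2, F), ¬ IsScal g → tr g = 2 →
      ∃ (c : SL(2, F)) (a : F), a ≠ 0 ∧ c * g * c⁻¹ = up a := by
    intro g hns ht
    have d := sl2_det g
    simp only [tr] at ht
    have hN : (g 0 0 - 1) * (g 0 0 - 1) + g 0 1 * g 1 0 = 0 := by grind
    by_cases h10 : g 1 0 = 0
    · have h00 : g 0 0 = 1 := by
        rw [h10, mul_zero, add_zero] at hN
        exact sub_eq_zero.1 (mul_self_eq_zero.1 hN)
      have h11 : g 1 1 = 1 := by grind
      refine ⟨1, g 0 1, fun e => hns ⟨e, h10, h00.trans h11.symm⟩, ?_⟩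
      apply sl2_ext <;> simp [up, h10, h00, h11]
    · let v := g 0 0 - 1
      let P : SL(2, F) := sl2 0 (g 1 0)⁻¹ (-g 1 0) v (by field_simp; ring)
      refine ⟨P, -(g 1 0)⁻¹, neg_ne_zero.2 (inv_ne_zero h10), ?_⟩
      rw [mul_inv_eq_iff_eq_mul]
      apply sl2_ext <;> simp [P, up, v, sl2_mul] <;> grind
  rcases exists_sign_tr_two ht with h | h
  · obtain ⟨c, a, ha, e⟩ := key g hns h
    exact ⟨c, a, ha, by rw [e]⟩
  · obtain ⟨c, a, ha, e⟩ := key (-g) (fun hs => hns (by
      rw [← mem_center_iff_isScal] at hs ⊢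
      have := mul_mem hs ((mem_center_sl2 (g := (-1 : SL(2, F)))).2 (Or.inr rfl))
      simpa using this)) h
    exact ⟨c, a, ha, by rw [← e]; simp [π_neg]⟩

/-- An element normalises `Uinf` iff it lies in the Borel subgroup. -/
lemma normalizer_Uinf : Subgroup.normalizer (Uinf F : Set PSL(2, F)) = borel F := by
  ext x
  obtain ⟨g, rfl⟩ := π_surjective x
  rw [mem_borel, Subgroup.mem_normalizer_iff]
  constructor
  · intro h
    obtain ⟨b, hb⟩ := mem_Uinf.1 ((h (π (up 1))).1 (mem_Uinf.2 ⟨1, rfl⟩))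
    rw [← map_inv, ← map_mul, ← map_mul] at hb
    rcases π_eq_iff.1 hb with e | e <;>
      · have h10 := congrArg (fun z : SL(2, F) => z 1 0) e
        simp [up, sl2_neg, sl2_mul, sl2_inv_00, sl2_inv_10] at h10
        exact mul_self_eq_zero.1 (show g 1 0 * g 1 0 = 0 by grind)
  · intro hg
    have key : ∀ h : SL(2, F), h 1 0 = 0 → ∀ z, z ∈ Uinf F → π h * z * (π h)⁻¹ ∈ Uinf F := by
      intro h hh z hz
      obtain ⟨b, rfl⟩ := mem_Uinf.1 hz
      rw [← map_inv, ← map_mul, ← map_mul]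
      refine π_eq_up_of_chi (by simp [up, sl2_mul, sl2_inv_10, hh]) ?_
      have d := sl2_det h
      rw [hh, mul_zero, sub_zero] at d
      simp [up, sl2_mul, sl2_inv_00, sl2_inv_10, hh, d]
    intro z
    refine ⟨key g hg z, fun hz => ?_⟩
    have := key g⁻¹ (by rw [sl2_inv_10, hg, neg_zero]) _ hz
    simpa [mul_assoc] using this

variable [Fintype F]

lemma card_Uinf : Nat.card (Uinf F) = Fintype.card F := by
  rw [Uinf, ← Nat.card_congr (MonoidHom.ofInjective (upHom_injective (F := F))).toEquiv,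
    ← Nat.card_eq_fintype_card]
  exact Nat.card_congr Multiplicative.toAdd

/-- The `maximal abelian subgroup' attached to an element. -/
noncomputable def mx (x : PSL(2, F)) : Subgroup PSL(2, F) :=
  tor (Classical.choose (π_surjective x))

lemma mx_π (g : SL(2, F)) : mx (π g) = tor g := by
  unfold mx
  rcases π_eq_iff.1 (Classical.choose_spec (π_surjective (π g))) with h | h <;> rw [h]
  exact tor_neg g

lemma self_mem_mx (x : PSL(2, F)) : x ∈ mx x := by
  obtain ⟨g, rfl⟩ := π_surjective x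
  rw [mx_π]; exact self_mem_tor g

lemma mx_eq_of_mem {x y : PSL(2, F)} (hx : x ≠ 1) (hy : y ∈ mx x) (hy1 : y ≠ 1) :
    mx y = mx x := by
  obtain ⟨g, rfl⟩ := π_surjective x
  obtain ⟨h, rfl⟩ := π_surjective y
  rw [mx_π] at hy ⊢
  rw [mx_π]
  exact tor_eq_of_mem (fun hs => hx (π_eq_one_iff_isScal.2 hs)) hy hy1

lemma mx_conj (c x : PSL(2, F)) : mx (c * x * c⁻¹) = (mx x).map (MulAut.conj c).toMonoidHom := by
  obtain ⟨g, rfl⟩ := π_surjective x
  obtain ⟨d, rfl⟩ := π_surjective c
  rw [← map_inv, ← map_mul, ← map_mul, mx_π, mx_π, map_conj_tor]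

/-- Semisimple elements of `PSL₂`. -/
def IsSS (x : PSL(2, F)) : Prop := ∃ g : SL(2, F), π g = x ∧ tr g ^ 2 ≠ 4

lemma isSS_π {g : SL(2, F)} : IsSS (π g) ↔ tr g ^ 2 ≠ 4 := by
  refine ⟨fun ⟨h, he, ht⟩ => ?_, fun ht => ⟨g, rfl, ht⟩⟩
  rcases π_eq_iff.1 he with rfl | rfl
  · exact ht
  · rwa [tr_neg, neg_sq] at ht

lemma ne_one_of_isSS {x : PSL(2, F)} (h : IsSS x) : x ≠ 1 := by
  obtain ⟨g, rfl, ht⟩ := h
  exact fun e => not_isScal_of_ss ht (π_eq_one_iff_isScal.1 e)

/-- A non-semisimple element other than one is conjugate to an element of `Uinf`. -/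
lemma exists_conj_Uinf {x : PSL(2, F)} (hx : x ≠ 1) (hs : ¬ IsSS x) :
    ∃ c : PSL(2, F), (mx x).map (MulAut.conj c).toMonoidHom = Uinf F := by
  obtain ⟨g, rfl⟩ := π_surjective x
  have ht : tr g ^ 2 = 4 := by
    by_contra h
    exact hs (isSS_π.2 h)
  obtain ⟨c, a, ha, e⟩ := exists_conj_up (fun h => hx (π_eq_one_iff_isScal.2 h)) ht
  refine ⟨π c, ?_⟩
  rw [← mx_conj, ← map_inv, ← map_mul, ← map_mul, e, mx_π, tor_up ha]

variable (p : ℕ) [Fact p.Prime] [CharP F p]

lemma orderOf_eq_of_not_isSS {x : PSL(2, F)} (hx : x ≠ 1) (hs : ¬ IsSS x) : orderOf x = p := by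
  obtain ⟨g, rfl⟩ := π_surjective x
  refine orderOf_eq_prime ?_ hx
  have ht : tr g ^ 2 = 4 := by
    by_contra h
    exact hs (isSS_π.2 h)
  rcases exists_sign_tr_two ht with h | h
  · rw [← map_pow, pow_char_of_tr_two p h, map_one]
  · rw [← π_neg g, ← map_pow, pow_char_of_tr_two p h, map_one]

lemma isSS_of_mem_mx {x y : PSL(2, F)} (hx : IsSS x) (hy : y ∈ mx x) (hy1 : y ≠ 1) : IsSS y := by
  by_contra hs
  obtain ⟨c, hc⟩ := exists_conj_Uinf hy1 hs
  rw [mx_eq_of_mem (ne_one_of_isSS hx) hy hy1] at hc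
  have h1 := congrArg (fun S : Subgroup PSL(2, F) => Nat.card S) hc
  try simp only at h1
  rw [card_Uinf, Subgroup.card_map_of_injective (MulEquiv.injective _)] at h1
  obtain ⟨g, rfl, ht⟩ := hx
  rw [mx_π] at h1
  have h2 : 2 ≤ Fintype.card F := Fintype.one_lt_card
  have hmul := card_tor_mul rfl g
  have hd : Nat.gcd 2 (Fintype.card F - 1) ∣ 2 := Nat.gcd_dvd_left _ _
  rcases (Nat.dvd_prime Nat.prime_two).1 hd with e | e <;> rw [h1, e] at hmul <;>
    rcases card_cent_ss ht with ⟨-, h⟩ | ⟨-, h⟩ <;> rw [h] at hmul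
  all_goals first
    | omega
    | (have := Nat.gcd_dvd_right 2 (Fintype.card F - 1)
       rw [e] at this
       omega)

/-- The torus of a semisimple element has order prime to the characteristic. -/
lemma not_dvd_card_mx {x : PSL(2, F)} (hx : IsSS x) : ¬ p ∣ Nat.card (mx x) := by
  intro h
  obtain ⟨y, hy⟩ := exists_prime_orderOf_dvd_card' (G := mx x) p h
  rw [← Subgroup.orderOf_coe] at hy
  have hy1 : (y : PSL(2, F)) ≠ 1 := fun e => (Fact.out : p.Prime).ne_one (by
    rw [← hy, e, orderOf_one])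
  obtain ⟨g, hg, ht⟩ := isSS_of_mem_mx hx y.2 hy1
  have hgp : g ^ p = 1 ∨ g ^ p = -1 := by
    rw [← π_eq_one_iff, map_pow, hg, ← hy, pow_orderOf_eq_one]
  apply ht
  have key : ∀ h : SL(2, F), h ^ p = 1 → tr h = 2 := by
    intro h hh
    by_contra hne
    by_cases h4 : tr h ^ 2 = 4
    · rcases exists_sign_tr_two h4 with e | e
      · exact hne e
      · have h1 := pow_char_of_tr_two p e
        rcases (Fact.out : p.Prime).eq_two_or_odd' with h2 | h2
        · subst h2
          have h20 : (2 : F) = 0 := by simpa using CharP.cast_eq_zero F 2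
          rw [tr_neg] at e
          exact hne (by linear_combination (-1 : F) * e - 2 * h20)
        · rw [h2.neg_pow, hh] at h1
          have h00 := congrArg (fun z : SL(2, F) => z 0 0) h1
          simp [sl2_neg] at h00
          rw [tr_neg] at e
          exact hne (by linear_combination (-1 : F) * e + 2 * h00)
    · have hq : Fintype.card F ≥ 2 := Fintype.one_lt_card
      obtain ⟨j, hp, hj⟩ := FiniteField.card F p
      have hd : orderOf h ∣ Nat.card (cent h) := (cent h).orderOf_dvd_natCard (self_mem_cent h)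
      have ho : orderOf h = p := orderOf_eq_prime hh fun e => hne (by rw [e, tr_one])
      have hpq : p ∣ Fintype.card F := hj ▸ dvd_pow_self p j.ne_zero
      have hp2 := (Fact.out : p.Prime).two_le
      rw [ho] at hd
      rcases card_cent_ss h4 with ⟨-, h⟩ | ⟨-, h⟩ <;> rw [h] at hd
      · have := Nat.dvd_sub hpq hd
        rw [show Fintype.card F - (Fintype.card F - 1) = 1 by omega] at this
        have := Nat.le_of_dvd one_pos this
        omega
      · have := Nat.dvd_sub hd hpq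
        rw [show Fintype.card F + 1 - Fintype.card F = 1 by omega] at this
        have := Nat.le_of_dvd one_pos this
        omega
  rcases hgp with e | e
  · rw [key g e]; norm_num
  · rcases (Fact.out : p.Prime).eq_two_or_odd' with h2 | h2
    · subst h2
      have h20 : (2 : F) = 0 := by simpa using CharP.cast_eq_zero F 2
      rw [key g (by rw [e]; apply sl2_ext <;> simp [sl2_neg, neg_eq_iff_add_eq_zero, one_add_one_eq_two, h20])]
      norm_num
    · have := key (-g) (by rw [h2.neg_pow, e, neg_neg])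
      rw [tr_neg] at this
      linear_combination (-tr g + 2) * this

end Cfsg.Agent.H6
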