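import Cfsg.Agent.H6.Recognise

/-!
# Dickson's counting argument
-/

set_option autoImplicit false

open Matrix MatrixGroups

namespace Cfsg.Agent.H6

variable {F : Type*} [Field F] [Fintype F]

/-- The data left by the counting argument for a subgroup of subfield type. -/
def Gen (H : Subgroup PSL(2, F)) (r k : ℕ) : Prop :=
  Uinf F ∈ cls H ∧ mH H (Uinf F) = r ∧ nH H (Uinf F) = r * k ∧ 1 < k ∧
    (2 * k + 1 = r ∨ k + 1 = r) ∧ Nat.card H = (r + 1) * (r * k) ∧
    (∃ y ∈ H, y ∈ borel F ∧ IsSS y ∧ orderOf y = k ∧ mx y ≤ borel F ∧ nH H (mx y) = 2 * k) ∧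
    (∀ h ∈ H, orderOf h ≤ r + 1)

lemma orderOf_le_mH {H M : Subgroup PSL(2, F)} {x : PSL(2, F)} (hxH : x ∈ H) (hxM : x ∈ M) :
    orderOf x ≤ mH H M :=
  Nat.le_of_dvd Nat.card_pos (Subgroup.orderOf_dvd_natCard _ ⟨hxM, hxH⟩)

/-- Bound element orders by the orbit data. -/
lemma orderOf_le_of_orbits {H : Subgroup PSL(2, F)} {B : ℕ} (hB : 1 ≤ B)
    (h : ∀ O ∈ orbits H, mH H (rep O) ≤ B) : ∀ x ∈ H, orderOf x ≤ B := by
  intro x hx
  by_cases hx1 : x = 1
  · rw [hx1, orderOf_one]; exact hB
  have hM := mx_mem_cls hx hx1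
  refine (orderOf_le_mH hx (self_mem_mx x)).trans (le_of_eq_of_le ?_ (h _ (orb_mem_orbits hM)))
  refine (mH_of_mem_orb ?_).symm
  have h2 := self_mem_orb (H := H) (rep (orb H (mx x)))
  rwa [(rep_spec (orb_mem_orbits hM)).2] at h2

section arith

/-- Weight of a self-normalising orbit. -/
lemma weight_one {m : ℕ} (hm : 2 ≤ m) :
    ((m : ℚ) - 1) / (m : ℚ) = 1 - 1 / (m : ℚ) ∧ (1 : ℚ) / (m : ℚ) ≤ 1 / 2 := by
  have h : (2 : ℚ) ≤ m := by exact_mod_cast hm
  exact ⟨by rw [sub_div, div_self (by linarith)], one_div_le_one_div_of_le two_pos h⟩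

/-- Weight of an orbit with dihedral normaliser. -/
lemma weight_two {m : ℕ} (hm : 2 ≤ m) :
    ((m : ℚ) - 1) / (2 * m : ℕ) = 1 / 2 - 1 / (2 * m : ℕ) ∧ (1 : ℚ) / (2 * m : ℕ) ≤ 1 / 4 := by
  have h : (2 : ℚ) ≤ m := by exact_mod_cast hm
  push_cast
  refine ⟨?_, one_div_le_one_div_of_le (by norm_num) (by linarith)⟩
  rw [sub_div]
  field_simp

lemma le_of_inv_le {a b : ℕ} (ha : 0 < a) (hb : 0 < b) (h : (1 : ℚ) / a ≤ 1 / b) : b ≤ a := by
  have := (one_div_le_one_div (by exact_mod_cast ha) (by exact_mod_cast hb)).1 h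
  exact_mod_cast this

lemma lt_of_inv_lt {a b : ℕ} (ha : 0 < a) (hb : 0 < b) (h : (1 : ℚ) / a < 1 / b) : b < a := by
  have := (one_div_lt_one_div (by exact_mod_cast ha) (by exact_mod_cast hb)).1 h
  exact_mod_cast this

/-- `(2,b,c)` with `1/b + 1/c = 1/2 + 2/N`, `b ≤ c`, `b ∣ N`... -/
lemma triangle_cases {a b c N : ℕ} (ha : 2 ≤ a) (hab : a ≤ b) (hbc : b ≤ c) (hN : 0 < N)
    (hc : 2 * c ≤ N) (h : (1 : ℚ) / (2 * a : ℕ) + 1 / (2 * b : ℕ) + 1 / (2 * c : ℕ) = 1 / 2 + 1 / N) :
    a = 2 ∧ ((b = 2 ∧ N = 2 * c) ∨ (b = 3 ∧ c = 3 ∧ N = 12) ∨ (b = 3 ∧ c = 4 ∧ N = 24) ∨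
      (b = 3 ∧ c = 5 ∧ N = 60)) := by
  have hb2 : 2 ≤ b := ha.trans hab
  have hc2 : 2 ≤ c := hb2.trans hbc
  push_cast at h
  have hA : (0 : ℚ) < a := by exact_mod_cast (by omega : 0 < a)
  have hNq : (0 : ℚ) < N := by exact_mod_cast hN
  have hab' : (1 : ℚ) / (2 * b) ≤ 1 / (2 * a) :=
    one_div_le_one_div_of_le (by linarith) (by exact_mod_cast (by omega : 2 * a ≤ 2 * b))
  have hbc' : (1 : ℚ) / (2 * c) ≤ 1 / (2 * b) :=
    one_div_le_one_div_of_le (by exact_mod_cast (by omega : 0 < 2 * b))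
      (by exact_mod_cast (by omega : 2 * b ≤ 2 * c))
  have hNp : (0 : ℚ) < 1 / N := one_div_pos.2 hNq
  have ha2 : a = 2 := by
    by_contra hne
    have : (1 : ℚ) / (2 * a) ≤ 1 / 6 :=
      one_div_le_one_div_of_le (by norm_num) (by exact_mod_cast (by omega : 6 ≤ 2 * a))
    linarith
  subst ha2
  refine ⟨rfl, ?_⟩
  push_cast at h hab'
  have hb3 : b ≤ 3 := by
    by_contra hne
    have : (1 : ℚ) / (2 * b) ≤ 1 / 8 :=
      one_div_le_one_div_of_le (by norm_num) (by exact_mod_cast (by omega : 8 ≤ 2 * b))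
    linarith
  interval_cases b
  · left
    refine ⟨rfl, ?_⟩
    push_cast at h
    norm_num at h
    field_simp at h
    exact_mod_cast (show (N : ℚ) = 2 * c by linarith)
  · right
    push_cast at h
    have hc5 : c ≤ 5 := by
      by_contra hne
      have : (1 : ℚ) / (2 * c) ≤ 1 / 12 :=
        one_div_le_one_div_of_le (by norm_num) (by exact_mod_cast (by omega : 12 ≤ 2 * c))
      linarith
    interval_cases c
    · left
      refine ⟨rfl, rfl, ?_⟩
      norm_num at h
      field_simp at h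
      exact_mod_cast (show (N : ℚ) = 12 by linarith)
    · right; left
      refine ⟨rfl, rfl, ?_⟩
      norm_num at h
      field_simp at h
      exact_mod_cast (show (N : ℚ) = 24 by linarith)
    · right; right
      refine ⟨rfl, rfl, ?_⟩
      norm_num at h
      field_simp at h
      exact_mod_cast (show (N : ℚ) = 60 by linarith)

end arith

/-- Outcome of the counting argument for a subgroup whose unipotents sit in `Uinf`. -/
inductive Outcome (H : Subgroup PSL(2, F)) (p : ℕ) : Prop
  | triv : Nat.card H = 1 → Outcome H p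
  | dih : (∃ g : SL(2, F), tr g ^ 2 ≠ 4 ∧ H ≤ torDih g) → Outcome H p
  | bor : (∃ c : PSL(2, F), cj c H ≤ borel F) → Outcome H p
  | a4 : Nat.card H = 12 → Nonempty (H ≃* alternatingGroup (Fin 4)) → Outcome H p
  | s4 : Nat.card H = 24 → Nonempty (H ≃* Equiv.Perm (Fin 4)) → ¬ p ∣ Nat.card H → Outcome H p
  | a5 : Nat.card H = 60 → Nonempty (H ≃* alternatingGroup (Fin 5)) →
      (p ∣ Nat.card H → p = 3) → Outcome H p
  | gen : (∃ r k, Gen H r k) → Outcome H p

/-- Everything known about one orbit of tori. -/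
lemma orbit_tor_data {H : Subgroup PSL(2, F)} {O : Finset (Subgroup PSL(2, F))}
    (hO : O ∈ orbits H) (hT : IsTor (rep O)) :
    2 ≤ mH H (rep O) ∧ (nH H (rep O) = mH H (rep O) ∨ nH H (rep O) = 2 * mH H (rep O)) ∧
      nH H (rep O) ≤ Nat.card H ∧ O.card * nH H (rep O) = Nat.card H := by
  obtain ⟨hM, he⟩ := rep_spec hO
  refine ⟨one_lt_mH hM, nH_tor hT, Nat.le_of_dvd Nat.card_pos
    (Subgroup.card_dvd_of_le inf_le_left), ?_⟩
  have := card_orb_mul (H := H) (rep O)
  rwa [he] at this

variable (p : ℕ) [Fact p.Prime] [CharP F p]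

/-- The case of three orbits of tori, sorted. -/
lemma outcome_triangle {H : Subgroup PSL(2, F)} (hT : ∀ O ∈ orbits H, IsTor (rep O))
    (hp : ¬ p ∣ Nat.card H) (t : Finset (Subgroup PSL(2, F)) → ℚ)
    (hall : ∀ O ∈ orbits H, nH H (rep O) = 2 * mH H (rep O) ∧
      t O = 1 / 2 - 1 / (2 * mH H (rep O) : ℕ))
    {A B C : Finset (Subgroup PSL(2, F))} (hab : A ≠ B) (hac : A ≠ C) (hbc : B ≠ C)
    (hmem : ∀ O, O ∈ orbits H ↔ O = A ∨ O = B ∨ O = C)
    (heq : t A + (t B + t C) = 1 - 1 / Nat.card H) (h1 : mH H (rep A) ≤ mH H (rep B))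
    (h2 : mH H (rep B) ≤ mH H (rep C)) : Outcome H p := by
  have hNpos : 0 < Nat.card H := Nat.card_pos
  have hA := (hmem A).2 (by simp)
  have hB := (hmem B).2 (by simp)
  have hC := (hmem C).2 (by simp)
  obtain ⟨eA, tA⟩ := hall A hA
  obtain ⟨eB, tB⟩ := hall B hB
  obtain ⟨eC, tC⟩ := hall C hC
  obtain ⟨hmA, -, -, cA⟩ := orbit_tor_data hA (hT A hA)
  obtain ⟨-, -, -, cB⟩ := orbit_tor_data hB (hT B hB)
  obtain ⟨-, -, hleC, cC⟩ := orbit_tor_data hC (hT C hC)
  obtain ⟨a2, hcase⟩ := triangle_cases hmA h1 h2 hNpos (eC ▸ hleC)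
    (by rw [tA, tB, tC] at heq; linarith)
  rcases hcase with ⟨-, hN⟩ | ⟨b3, c3, hN⟩ | ⟨b3, -, hN⟩ | ⟨b3, c5, hN⟩
  · obtain ⟨g, ht, -, hle⟩ := le_torDih_of_nH (hT C hC) (by rw [eC, hN])
    exact .dih ⟨g, ht, hle⟩
  · exfalso
    have : Fact (Nat.Prime 3) := ⟨Nat.prime_three⟩
    have hfac : (Nat.card H).factorization 3 = 1 := by
      rw [hN, show (12 : ℕ) = 3 * 4 by rfl, Nat.factorization_mul (by norm_num) (by norm_num),
        Finsupp.add_apply, Nat.Prime.factorization_self Nat.prime_three,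
        Nat.factorization_eq_zero_of_not_dvd (by norm_num)]
    have := orb_eq_of_prime_sylow (rep_spec hB).1 (rep_spec hC).1 b3 c3 hfac
    rw [(rep_spec hB).2, (rep_spec hC).2] at this
    exact hbc this
  · exact .s4 hN (equiv_perm_four hN (rep_spec hB).1 (hT B hB) b3 (by rw [eB, b3])) hp
  · refine .a5 hN (equiv_alt_five hN A B C hab hac hbc hmem ⟨by rw [a2]; norm_num, ?_⟩
      ⟨by rw [b3]; norm_num, ?_⟩ ⟨by rw [c5]; norm_num, ?_⟩) (fun h => absurd h hp)
    · rw [eA, a2, hN] at cA; rw [a2]; omega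
    · rw [eB, b3, hN] at cB; rw [b3]; omega
    · rw [eC, c5, hN] at cC; rw [c5]; omega

/-- Dickson's counting argument, when there are no unipotent elements. -/
lemma outcome_no_uni {H : Subgroup PSL(2, F)} (hno : ∀ M ∈ cls H, IsTor M) : Outcome H p := by
  classical
  by_cases hN1 : Nat.card H = 1
  · exact .triv hN1
  have hT : ∀ O ∈ orbits H, IsTor (rep O) := fun O hO => hno _ (rep_spec hO).1
  have hdih : ∀ O ∈ orbits H, nH H (rep O) = Nat.card H → Outcome H p := fun O hO e => by
    obtain ⟨g, ht, -, hle⟩ := le_torDih_of_nH (hT O hO) e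
    exact .dih ⟨g, ht, hle⟩
  have hNpos : 0 < Nat.card H := Nat.card_pos
  have hp : ¬ p ∣ Nat.card H := by
    intro hd
    obtain ⟨x, hx⟩ := exists_prime_orderOf_dvd_card' (G := H) p hd
    rw [← Subgroup.orderOf_coe] at hx
    have hx1 : (x : PSL(2, F)) ≠ 1 := fun e => (Fact.out : p.Prime).ne_one (by rw [← hx, e, orderOf_one])
    refine not_dvd_mH_tor p (H := H) (hno _ (mx_mem_cls x.2 hx1)) ?_
    rw [← hx]
    exact Subgroup.orderOf_dvd_natCard _ ⟨self_mem_mx _, x.2⟩
  have heq := class_equation (H := H)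
  have hNq : (2 : ℚ) ≤ Nat.card H := by exact_mod_cast (by omega : 2 ≤ Nat.card H)
  have hNinv : (0 : ℚ) < 1 / Nat.card H := one_div_pos.2 (by linarith)
  set t : Finset (Subgroup PSL(2, F)) → ℚ :=
    fun O => ((mH H (rep O) : ℚ) - 1) / nH H (rep O) with ht
  -- weights
  have hw : ∀ O ∈ orbits H,
      (nH H (rep O) = mH H (rep O) ∧ t O = 1 - 1 / (mH H (rep O) : ℚ) ∧ 1 / 2 ≤ t O) ∨
      (nH H (rep O) = 2 * mH H (rep O) ∧ t O = 1 / 2 - 1 / (2 * mH H (rep O) : ℕ) ∧ 1 / 4 ≤ t O ∧
        (1 : ℚ) / Nat.card H ≤ 1 / (2 * mH H (rep O) : ℕ)) := by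
    intro O hO
    obtain ⟨hm, hn, hle, -⟩ := orbit_tor_data hO (hT O hO)
    rcases hn with e | e
    · obtain ⟨h1, h2⟩ := weight_one hm
      refine Or.inl ⟨e, ?_, ?_⟩ <;> simp only [ht, e, h1]
      linarith
    · obtain ⟨h1, h2⟩ := weight_two hm
      have htO : t O = 1 / 2 - 1 / (2 * mH H (rep O) : ℕ) := by simp only [ht, e, h1]
      refine Or.inr ⟨e, htO, ?_, ?_⟩
      · linarith
      · exact one_div_le_one_div_of_le (by exact_mod_cast (by omega : 0 < 2 * mH H (rep O)))
          (by exact_mod_cast e ▸ hle)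
  have hquarter : ∀ O ∈ orbits H, (1 : ℚ) / 4 ≤ t O := fun O hO => by
    rcases hw O hO with ⟨-, -, h⟩ | ⟨-, -, h, -⟩ <;> linarith
  have hlt : (orbits H).card < 4 := by
    by_contra hge
    have h := Finset.card_nsmul_le_sum (orbits H) t (1 / 4) hquarter
    rw [nsmul_eq_mul, heq] at h
    have : (4 : ℚ) ≤ (orbits H).card := by exact_mod_cast (not_lt.1 hge)
    nlinarith
  rcases hcard : (orbits H).card with _ | _ | _ | _ | n
  · rw [Finset.card_eq_zero] at hcard
    rw [hcard, Finset.sum_empty] at heq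
    exfalso
    have : (1 : ℚ) / Nat.card H ≤ 1 / 2 := one_div_le_one_div_of_le two_pos hNq
    linarith
  · -- one orbit
    obtain ⟨O, hO⟩ := Finset.card_eq_one.1 hcard
    have hOm : O ∈ orbits H := by rw [hO]; exact Finset.mem_singleton_self O
    rw [hO, Finset.sum_singleton, show ((mH H (rep O) : ℚ) - 1) / nH H (rep O) = t O from rfl] at heq
    refine hdih O hOm ?_
    obtain ⟨hm, -, -, -⟩ := orbit_tor_data hOm (hT O hOm)
    rcases hw O hOm with ⟨e, he, -⟩ | ⟨e, he, -, hb⟩
    · rw [e]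
      have : (1 : ℚ) / (mH H (rep O) : ℚ) = 1 / Nat.card H := by linarith
      exact le_antisymm (le_of_inv_le hNpos (by omega) this.ge) (le_of_inv_le (by omega) hNpos this.le)
    · exfalso
      obtain ⟨-, hb'⟩ := weight_two hm
      linarith
  · -- two orbits
    obtain ⟨A, B, hne, hAB⟩ := Finset.card_eq_two.1 hcard
    have hA : A ∈ orbits H := by rw [hAB]; simp
    have hB : B ∈ orbits H := by rw [hAB]; simp
    rw [hAB, Finset.sum_pair hne, show ((mH H (rep A) : ℚ) - 1) / nH H (rep A) = t A from rfl,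
      show ((mH H (rep B) : ℚ) - 1) / nH H (rep B) = t B from rfl] at heq
    -- reduce to: `A` self-normalising, `B` not
    have main : ∀ A B, A ∈ orbits H → B ∈ orbits H → t A + t B = 1 - 1 / Nat.card H →
        nH H (rep A) = mH H (rep A) → nH H (rep B) = 2 * mH H (rep B) → Outcome H p := by
      intro A B hA hB heq eA eB
      obtain ⟨hmA, -, -, -⟩ := orbit_tor_data hA (hT A hA)
      obtain ⟨hmB, -, -, -⟩ := orbit_tor_data hB (hT B hB)
      rcases hw A hA with ⟨-, hA', hA''⟩ | ⟨e, -⟩
      swap; · omega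
      rcases hw B hB with ⟨e, -⟩ | ⟨-, hB', hB'', hb⟩
      · omega
      obtain ⟨-, hb4⟩ := weight_two hmB
      have ha3 : mH H (rep A) ≤ 3 := by
        by_contra h4
        have : (1 : ℚ) / (mH H (rep A) : ℚ) ≤ 1 / 4 :=
          one_div_le_one_div_of_le (by norm_num) (by exact_mod_cast (by omega : 4 ≤ mH H (rep A)))
        linarith
      interval_cases hmA' : mH H (rep A)
      · -- dihedral
        refine hdih B hB ?_
        rw [eB]
        norm_num at hA'
        have : (1 : ℚ) / (2 * mH H (rep B) : ℕ) = 1 / Nat.card H := by linarith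
        exact le_antisymm (le_of_inv_le hNpos (by omega) this.ge)
          (le_of_inv_le (by omega) hNpos this.le)
      · -- alternating of degree four
        norm_num at hA'
        have hb2 : mH H (rep B) = 2 := by
          by_contra hne
          have : (1 : ℚ) / (2 * mH H (rep B) : ℕ) ≤ 1 / 6 :=
            one_div_le_one_div_of_le (by norm_num)
              (by exact_mod_cast (by omega : 6 ≤ 2 * mH H (rep B)))
          linarith
        rw [hb2] at hB'
        norm_num at hB'
        have hN12 : Nat.card H = 12 := by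
          have : (1 : ℚ) / Nat.card H = 1 / ((12 : ℕ) : ℚ) := by push_cast; linarith
          exact le_antisymm (le_of_inv_le (by norm_num) hNpos this.ge)
            (le_of_inv_le hNpos (by norm_num) this.le)
        exact .a4 hN12 (equiv_alt_four hN12 (rep_spec hA).1 hmA' eA)
    rcases hw A hA with ⟨eA, -, hA''⟩ | ⟨eA, hA', -, hbA⟩ <;>
      rcases hw B hB with ⟨eB, -, hB''⟩ | ⟨eB, hB', -, hbB⟩
    · exfalso; linarith
    · exact main A B hA hB heq eA eB
    · exact main B A hB hA (by rw [add_comm]; exact heq) eB eA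
    · exfalso; linarith
  · -- three orbits
    obtain ⟨A, B, C, hab, hac, hbc, hABC⟩ := Finset.card_eq_three.1 hcard
    have hmem : ∀ O, O ∈ orbits H ↔ O = A ∨ O = B ∨ O = C := fun O => by rw [hABC]; simp
    rw [hABC, Finset.sum_insert (by simp [hab, hac]), Finset.sum_pair hbc] at heq
    have hall : ∀ O ∈ orbits H, nH H (rep O) = 2 * mH H (rep O) ∧
        t O = 1 / 2 - 1 / (2 * mH H (rep O) : ℕ) := by
      intro O hO
      rcases hw O hO with ⟨-, -, h⟩ | ⟨e, h, -, -⟩
      · exfalso
        have hsum : t A + (t B + t C) = 1 - 1 / Nat.card H := heq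
        rcases (hmem O).1 hO with rfl | rfl | rfl
        · linarith [hquarter B ((hmem B).2 (by simp)), hquarter C ((hmem C).2 (by simp))]
        · linarith [hquarter A ((hmem A).2 (by simp)), hquarter C ((hmem C).2 (by simp))]
        · linarith [hquarter A ((hmem A).2 (by simp)), hquarter B ((hmem B).2 (by simp))]
      · exact ⟨e, h⟩
    have main := fun A B C => outcome_triangle (A := A) (B := B) (C := C) p hT hp t hall
    have hsum : t A + (t B + t C) = 1 - 1 / Nat.card H := heq
    rcases le_total (mH H (rep A)) (mH H (rep B)) with h1 | h1 <;>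
      rcases le_total (mH H (rep B)) (mH H (rep C)) with h2 | h2 <;>
      rcases le_total (mH H (rep A)) (mH H (rep C)) with h3 | h3
    · exact main A B C hab hac hbc hmem hsum h1 h2
    · exact main A B C hab hac hbc hmem hsum h1 h2
    · exact main A C B hac hab hbc.symm (fun O => by simp only [hmem, or_comm, or_left_comm]) (by linarith) h3 h2
    · exact main C A B hac.symm hbc.symm hab (fun O => by simp only [hmem, or_comm, or_left_comm]) (by linarith) h3 h1
    · exact main B A C hab.symm hbc hac (fun O => by simp only [hmem, or_comm, or_left_comm]) (by linarith) h1 h3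
    · exact main B C A hbc hab.symm hac.symm (fun O => by simp only [hmem, or_comm, or_left_comm]) (by linarith) h2 h3
    · exact main C B A hbc.symm hac.symm hab.symm (fun O => by simp only [hmem, or_comm, or_left_comm]) (by linarith) h2 h1
    · exact main C B A hbc.symm hac.symm hab.symm (fun O => by simp only [hmem, or_comm, or_left_comm]) (by linarith) h2 h1
  · omega

/-- Apart from the fixed point `Uinf`, the subgroup `H ∩ Uinf` acts freely on its orbit. -/
lemma dvd_card_orb_sub_one {H : Subgroup PSL(2, F)} (hU : Uinf F ∈ cls H) :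
    mH H (Uinf F) ∣ (orb H (Uinf F)).card - 1 := by
  classical
  set Q := Uinf F ⊓ H
  set O := orb H (Uinf F)
  have hfix : cj (1 : PSL(2, F)) (Uinf F) = Uinf F := cj_one _
  have hUc : ∀ M ∈ O, M ∈ cls H ∧ IsUni M := by
    intro M hM
    obtain ⟨c, hc, rfl⟩ := mem_orb.1 hM
    exact ⟨cj_mem_cls hU hc, ⟨c⁻¹, by rw [cj_cj, inv_mul_cancel, cj_one]⟩⟩
  have horb : ∀ M ∈ O.erase (Uinf F), orb Q M ⊆ O.erase (Uinf F) ∧ (orb Q M).card = mH H (Uinf F) := by
    intro M hM
    obtain ⟨hne, hMO⟩ := Finset.mem_erase.1 hM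
    constructor
    · intro M' hM'
      obtain ⟨c, hc, rfl⟩ := mem_orb.1 hM'
      obtain ⟨d, hd, rfl⟩ := mem_orb.1 hMO
      refine Finset.mem_erase.2 ⟨fun e => hne ?_, mem_orb.2 ⟨c * d, mul_mem hc.2 hd, (cj_cj _ _ _).symm⟩⟩
      have := congrArg (cj c⁻¹) e
      rw [cj_cj, inv_mul_cancel, cj_one] at this
      rw [this]
      exact cj_eq_iff_mem_normalizer.2 (Subgroup.le_normalizer (inv_mem hc.1))
    · have h := card_orb_mul (H := Q) M
      have h1 : nH Q M = 1 := by
        rw [nH, Subgroup.card_eq_one, Subgroup.eq_bot_iff_forall]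
        rintro z ⟨hz, hzn⟩
        by_contra hz1
        obtain ⟨hMc, hMu⟩ := hUc M hMO
        have hzM : z ∈ M := by
          obtain ⟨c, hc⟩ := hMu
          have h2 : c * z * c⁻¹ ∈ borel F := by
            rw [← normalizer_Uinf, ← hc, ← cj_eq_iff_mem_normalizer, cj_cj]
            have e : c * z * c⁻¹ * c = c * z := by simp [mul_assoc]
            rw [e, ← cj_cj, cj_eq_iff_mem_normalizer.2 hzn]
          have h3 : c * z * c⁻¹ ∈ Uinf F := by
            by_contra hno
            have hs : IsSS (c * z * c⁻¹) :=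
              isSS_of_chiB (x := ⟨_, h2⟩) fun e => hno ((chiB_eq_one_iff _).1 e)
            have := isSS_conj (c := c⁻¹) hs
            simp [mul_assoc] at this
            exact not_isSS_of_mem_isUni isUni_Uinf hz.1 this
          rw [← hc, mem_cj] at h3
          simpa [mul_assoc] using h3
        exact hne ((mx_eq_of_mem_cls hMc hzM hz1).symm.trans (mx_eq_of_mem_cls hU hz.1 hz1))
      rw [h1, mul_one] at h
      exact h
  have hU' : Uinf F ∈ O := self_mem_orb _
  rw [← Finset.card_erase_of_mem hU', Finset.card_eq_sum_card_fiberwise (f := orb Q)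
    (t := (O.erase (Uinf F)).image (orb Q)) (fun M hM => Finset.mem_image_of_mem _ hM)]
  refine Finset.dvd_sum fun T hT => ?_
  obtain ⟨M, hM, rfl⟩ := Finset.mem_image.1 hT
  obtain ⟨hsub, hc⟩ := horb M hM
  have : (O.erase (Uinf F)).filter (fun N => orb Q N = orb Q M) = orb Q M := by
    ext N
    simp only [Finset.mem_filter]
    exact ⟨fun h => h.2 ▸ self_mem_orb N, fun h => ⟨hsub h, orb_eq_of_mem h⟩⟩
  rw [this, hc]

/-- The Diophantine equation of the subfield case. -/
lemma gen_arith {r k g j : ℕ} (hr : 3 ≤ r) (hk : 2 ≤ k) (hkr : k ∣ r - 1) (hj : 1 ≤ j)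
    (h : g * (j * (r - 2) + 1) = k * (1 + j * r)) :
    (j = 1 ∧ (2 * k + 1 = r ∨ k + 1 = r) ∧ g ≤ r + 1) ∨ (r = 3 ∧ k = 2 ∧ j = 3 ∧ g = 5) := by
  obtain ⟨R, rfl⟩ : ∃ R, r = R + 3 := ⟨r - 3, by omega⟩
  rw [show R + 3 - 2 = R + 1 by omega] at h
  rw [show R + 3 - 1 = R + 2 by omega] at hkr
  set D := j * (R + 1) + 1 with hD
  have hkle : k ≤ R + 2 := Nat.le_of_dvd (by omega) hkr
  have hdvd : D ∣ 2 * k := by
    have h1 : D ∣ k * (1 + j * (R + 3)) := ⟨g, by rw [← h]; ring⟩
    have e : k * (1 + j * (R + 3)) = k * D + j * (2 * k) := by rw [hD]; ring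
    rw [e] at h1
    have h2 := (Nat.dvd_add_right (dvd_mul_left D k)).1 h1
    exact (Nat.Coprime.dvd_mul_left (by rw [hD]; simp)).1 h2
  have hle : D ≤ 2 * k := Nat.le_of_dvd (by omega) hdvd
  have hDle : j * (R + 1) + 1 ≤ 2 * R + 4 := by omega
  rcases (show j = 1 ∨ j = 2 ∨ 3 ≤ j by omega) with rfl | rfl | hj3
  · left
    rw [show D = R + 2 by omega] at hdvd h
    obtain ⟨s, hs⟩ := hkr
    have hs2 : s ∣ 2 := by
      rw [hs, mul_comm 2 k] at hdvd
      exact Nat.dvd_of_mul_dvd_mul_left (by omega) hdvd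
    rcases (Nat.dvd_prime Nat.prime_two).1 hs2 with rfl | rfl
    · refine ⟨rfl, Or.inr (by omega), ?_⟩
      rw [hs, mul_one, one_mul, mul_comm g] at h
      have := Nat.eq_of_mul_eq_mul_left (by omega) h
      omega
    · refine ⟨rfl, Or.inl (by omega), ?_⟩
      rw [hs, one_mul, ← mul_assoc, mul_comm g k, mul_assoc] at h
      have := Nat.eq_of_mul_eq_mul_left (by omega) h
      omega
  · exfalso
    obtain ⟨c, hc⟩ := hdvd
    rcases c with _ | _ | c
    · omega
    · omega
    · have : D * 2 ≤ D * (c + 1 + 1) := Nat.mul_le_mul_left _ (by omega)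
      omega
  · right
    have hR : R = 0 := by nlinarith
    subst hR
    have hk2 : k = 2 := by omega
    subst hk2
    norm_num at hdvd hle h hD ⊢
    have : D = 4 := by
      rcases hdvd with ⟨c, hc⟩
      rcases c with _ | _ | c
      · omega
      · omega
      · have : D * 2 ≤ D * (c + 1 + 1) := Nat.mul_le_mul_left _ (by omega)
        omega
    have : j = 3 := by omega
    subst this
    omega

/-- Dickson's counting argument, when `Uinf` is met. -/
lemma outcome_uni {H : Subgroup PSL(2, F)} (hU : Uinf F ∈ cls H) : Outcome H p := by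
  classical
  obtain ⟨k, hnk, hkr, hkpos, hy⟩ := borel_structure hU
  set r := mH H (Uinf F) with hr
  have hr2 : 2 ≤ r := one_lt_mH hU
  set OU := orb H (Uinf F) with hOU
  have hOUm : OU ∈ orbits H := orb_mem_orbits hU
  have hrepU : rep OU ∈ orb H (Uinf F) := by
    have h2 := self_mem_orb (H := H) (rep OU)
    rwa [(rep_spec hOUm).2] at h2
  have hmU : mH H (rep OU) = r := mH_of_mem_orb hrepU
  have hnU : nH H (rep OU) = r * k := (nH_of_mem_orb hrepU).trans hnk
  have hf : OU.card * (r * k) = Nat.card H := by rw [← hnk]; exact card_orb_mul _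
  have hbor : Nat.card H = r * k → Outcome H p := fun e => by
    refine .bor ⟨1, ?_⟩
    rw [cj_one, ← normalizer_Uinf]
    exact inf_eq_left.1 (Subgroup.eq_of_le_of_card_ge inf_le_left (le_of_eq (e.trans hnk.symm)))
  have hT : ∀ O ∈ (orbits H).erase OU, IsTor (rep O) := by
    intro O hO
    obtain ⟨hne, hO⟩ := Finset.mem_erase.1 hO
    refine (isTor_or_isUni (rep_spec hO).1).resolve_right fun hu => hne ?_
    rw [← (rep_spec hO).2]
    exact orb_eq_of_isUni p (rep_spec hO).1 hU hu isUni_Uinf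
  have hNpos : 0 < Nat.card H := Nat.card_pos
  have hrkN : r * k ≤ Nat.card H := by
    rw [← hnk]; exact Nat.le_of_dvd hNpos (Subgroup.card_dvd_of_le inf_le_left)
  have hNinv : (0 : ℚ) < 1 / Nat.card H := one_div_pos.2 (by exact_mod_cast hNpos)
  have heq := class_equation (H := H)
  set t : Finset (Subgroup PSL(2, F)) → ℚ :=
    fun O => ((mH H (rep O) : ℚ) - 1) / nH H (rep O) with ht
  rw [← Finset.add_sum_erase _ _ hOUm] at heq
  have htU : t OU = ((r : ℚ) - 1) / (r * k : ℕ) := by simp only [ht, hmU, hnU]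
  have hw : ∀ O ∈ (orbits H).erase OU,
      (nH H (rep O) = mH H (rep O) ∧ t O = 1 - 1 / (mH H (rep O) : ℚ) ∧ 1 / 2 ≤ t O) ∨
      (nH H (rep O) = 2 * mH H (rep O) ∧ t O = 1 / 2 - 1 / (2 * mH H (rep O) : ℕ) ∧ 1 / 4 ≤ t O) := by
    intro O hO
    obtain ⟨hm, hn, -, -⟩ := orbit_tor_data (Finset.mem_of_mem_erase hO) (hT O hO)
    rcases hn with e | e
    · obtain ⟨h1, h2⟩ := weight_one hm
      have htO : t O = 1 - 1 / (mH H (rep O) : ℚ) := by simp only [ht, e, h1]
      exact Or.inl ⟨e, htO, by linarith⟩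
    · obtain ⟨h1, h2⟩ := weight_two hm
      have htO : t O = 1 / 2 - 1 / (2 * mH H (rep O) : ℕ) := by simp only [ht, e, h1]
      exact Or.inr ⟨e, htO, by linarith⟩
  have hquarter : ∀ O ∈ (orbits H).erase OU, (1 : ℚ) / 4 ≤ t O := fun O hO => by
    rcases hw O hO with ⟨-, -, h⟩ | ⟨-, -, h⟩ <;> linarith
  -- a set of torus orbits with small total weight has at most one element
  have hone : ∀ S ⊆ (orbits H).erase OU, ∑ O ∈ S, t O < 1 / 2 →
      S = ∅ ∨ ∃ O, S = {O} ∧ nH H (rep O) = 2 * mH H (rep O) ∧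
        t O = 1 / 2 - 1 / (2 * mH H (rep O) : ℕ) := by
    intro S hS hsum
    have h := Finset.card_nsmul_le_sum S t (1 / 4) (fun O hO => hquarter O (hS hO))
    rw [nsmul_eq_mul] at h
    have : S.card < 2 := by
      by_contra hge
      have : (2 : ℚ) ≤ S.card := by exact_mod_cast (not_lt.1 hge)
      nlinarith
    rcases (show S.card = 0 ∨ S.card = 1 by omega) with h0 | h1
    · exact Or.inl (Finset.card_eq_zero.1 h0)
    · obtain ⟨O, rfl⟩ := Finset.card_eq_one.1 h1
      rcases hw O (hS (Finset.mem_singleton_self O)) with ⟨-, -, h2⟩ | ⟨e, h2, -⟩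
      · rw [Finset.sum_singleton] at hsum; linarith
      · exact Or.inr ⟨O, rfl, e, h2⟩
  change t OU + ∑ O ∈ (orbits H).erase OU, t O = _ at heq
  rw [htU] at heq
  push_cast at heq
  have hrq : (2 : ℚ) ≤ r := by exact_mod_cast hr2
  by_cases hk1 : k = 1
  · -- no semisimple normaliser part
    subst hk1
    rw [mul_one] at hrkN hnU hf
    have e0 : ((r : ℚ) - 1) / r = 1 - 1 / r := by
      rw [sub_div, div_self (by linarith)]
    rw [Nat.cast_one, mul_one, e0] at heq
    have hr' : (1 : ℚ) / r ≤ 1 / 2 := one_div_le_one_div_of_le two_pos hrq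
    rcases hone _ subset_rfl (by linarith) with hS | ⟨O, hS, hn, hO⟩
    · rw [hS, Finset.sum_empty] at heq
      refine hbor ?_
      rw [mul_one]
      have : (1 : ℚ) / r = 1 / Nat.card H := by linarith
      exact le_antisymm (le_of_inv_le (by omega) hNpos this.le) hrkN
    · rw [hS, Finset.sum_singleton, hO] at heq
      have hOm : O ∈ (orbits H).erase OU := by rw [hS]; exact Finset.mem_singleton_self O
      obtain ⟨hm, -, hle, -⟩ := orbit_tor_data (Finset.mem_of_mem_erase hOm) (hT O hOm)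
      obtain ⟨-, hm4⟩ := weight_two hm
      have hr3 : r ≤ 3 := by
        by_contra h4
        have : (1 : ℚ) / r ≤ 1 / 4 :=
          one_div_le_one_div_of_le (by norm_num) (by exact_mod_cast (by omega : 4 ≤ r))
        linarith
      rcases (show r = 2 ∨ r = 3 by omega) with hr' | hr'
      · rw [hr'] at heq
        norm_num [-Nat.card_eq_fintype_card] at heq
        obtain ⟨g, htg, -, hle'⟩ := le_torDih_of_nH (hT O hOm) (by
          rw [hn]
          field_simp at heq
          exact_mod_cast (show ((2 * mH H (rep O) : ℕ) : ℚ) = (Nat.card H : ℚ) by push_cast; linarith))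
        exact .dih ⟨g, htg, hle'⟩
      · rw [hr'] at heq
        have hg2 : mH H (rep O) = 2 := by
          by_contra hne
          have : (1 : ℚ) / (2 * mH H (rep O) : ℕ) ≤ 1 / 6 :=
            one_div_le_one_div_of_le (by norm_num)
              (by exact_mod_cast (by omega : 6 ≤ 2 * mH H (rep O)))
          push_cast at heq this
          linarith
        rw [hg2] at heq
        have hN12 : Nat.card H = 12 := by
          norm_num [-Nat.card_eq_fintype_card] at heq
          field_simp at heq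
          exact_mod_cast (show (Nat.card H : ℚ) = 12 by linarith)
        exact .a4 hN12 (equiv_alt_four hN12 hU hr' (hnk.trans (by rw [hr'])))
  · -- a cyclic complement
    obtain ⟨y, hyH, hyb, hys, hyo, hymx, hym⟩ := hy hk1
    have hk2 : 2 ≤ k := by omega
    have hr3 : 3 ≤ r := by
      have := Nat.le_of_dvd (by omega) hkr
      omega
    have hy1 := ne_one_of_isSS hys
    set M := mx y with hMdef
    have hMc : M ∈ cls H := mx_mem_cls hyH hy1
    set OK := orb H M with hOK
    have hOKm : OK ∈ orbits H := orb_mem_orbits hMc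
    have hMT : IsTor M := by
      obtain ⟨g, rfl, htg⟩ := hys
      exact ⟨g, htg, mx_π g⟩
    have hne : OK ≠ OU := fun e => by
      have h1 : Uinf F ∈ OK := e ▸ self_mem_orb _
      obtain ⟨c, -, hc⟩ := mem_orb.1 h1
      exact not_isTor_of_isUni isUni_Uinf (hc ▸ isTor_cj hMT c)
    have hOKe : OK ∈ (orbits H).erase OU := Finset.mem_erase.2 ⟨hne, hOKm⟩
    have hrepK : rep OK ∈ orb H M := by
      have h2 := self_mem_orb (H := H) (rep OK)
      rwa [(rep_spec hOKm).2] at h2
    have hmK : mH H (rep OK) = k := (mH_of_mem_orb hrepK).trans hym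
    rw [← Finset.add_sum_erase _ _ hOKe] at heq
    set S := ((orbits H).erase OU).erase OK with hSdef
    have hSsub : S ⊆ (orbits H).erase OU := Finset.erase_subset _ _
    have hkq : (2 : ℚ) ≤ k := by exact_mod_cast hk2
    have hr3q : (3 : ℚ) ≤ r := by exact_mod_cast hr3
    have e0 : ((r : ℚ) - 1) / ((r : ℚ) * k) = 1 / k - 1 / ((r : ℚ) * k) := by field_simp
    rw [e0] at heq
    have hrk6 : (1 : ℚ) / ((r : ℚ) * k) ≤ 1 / 6 :=
      one_div_le_one_div_of_le (by norm_num) (by nlinarith)
    rcases hw OK hOKe with ⟨-, hK, -⟩ | ⟨hKn, hK, -⟩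
    · -- `H` is contained in the Borel subgroup
      rw [hK, hmK] at heq
      have hsum : ∑ O ∈ S, t O = 1 / ((r : ℚ) * k) - 1 / Nat.card H := by linarith
      rcases hone S hSsub (by linarith) with hS | ⟨O, hS, -, hO⟩
      · rw [hS, Finset.sum_empty] at hsum
        refine hbor ?_
        have : (1 : ℚ) / ((r * k : ℕ) : ℚ) = 1 / Nat.card H := by push_cast; linarith
        exact le_antisymm (le_of_inv_le (Nat.mul_pos (by omega) (by omega)) hNpos this.le) hrkN
      · exfalso
        have hOm : O ∈ (orbits H).erase OU := hSsub (by rw [hS]; exact Finset.mem_singleton_self O)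
        have := hquarter O hOm
        rw [hS, Finset.sum_singleton] at hsum
        linarith
    · rw [hK, hmK] at heq
      push_cast at heq
      have h2k : (1 : ℚ) / (2 * (k : ℚ)) = 1 / (k : ℚ) / 2 := by ring
      have hk3 : (1 : ℚ) / ((r : ℚ) * k) ≤ 1 / (k : ℚ) / 3 := by
        rw [div_div]
        exact one_div_le_one_div_of_le (by linarith) (by nlinarith)
      have hkinv : (0 : ℚ) < 1 / (k : ℚ) := one_div_pos.2 (by linarith)
      have hsum : ∑ O ∈ S, t O =
          1 / 2 - 1 / (2 * (k : ℚ)) + 1 / ((r : ℚ) * k) - 1 / Nat.card H := by linarith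
      rcases hone S hSsub (by linarith) with hS | ⟨O, hS, hn, hO⟩
      · exfalso
        rw [hS, Finset.sum_empty] at hsum
        have : (1 : ℚ) / Nat.card H ≤ 1 / 6 := one_div_le_one_div_of_le (by norm_num)
          (by exact_mod_cast (by
            have : 6 ≤ r * k := Nat.mul_le_mul hr3 hk2
            omega : 6 ≤ Nat.card H))
        have hk' : (1 : ℚ) / (k : ℚ) ≤ 1 / 2 := one_div_le_one_div_of_le two_pos hkq
        have hrkpos : (0 : ℚ) < 1 / ((r : ℚ) * k) := one_div_pos.2 (by nlinarith)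
        linarith
      · rw [hS, Finset.sum_singleton, hO] at hsum
        have hOS : O ∈ S := by rw [hS]; exact Finset.mem_singleton_self O
        have hOm := hSsub hOS
        obtain ⟨hm, -, -, hcO⟩ := orbit_tor_data (Finset.mem_of_mem_erase hOm) (hT O hOm)
        set g := mH H (rep O) with hg
        set f := OU.card with hfdef
        have hfpos : 0 < f := Finset.card_pos.2 ⟨_, self_mem_orb _⟩
        have hgN : g * (f * (r - 2) + 2) = f * (r * k) := by
          rw [← hf] at hsum
          push_cast at hsum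
          have hgq : (0 : ℚ) < g := by exact_mod_cast (by omega : 0 < g)
          have hfq : (0 : ℚ) < f := by exact_mod_cast hfpos
          field_simp at hsum
          have key : (g : ℚ) * ((f : ℚ) * ((r : ℚ) - 2) + 2) = (f : ℚ) * ((r : ℚ) * k) := by
            linear_combination hsum
          rw [show ((r : ℚ) - 2) = ((r - 2 : ℕ) : ℚ) by rw [Nat.cast_sub (by omega)]; norm_num] at key
          exact_mod_cast key
        obtain ⟨j, hj⟩ := dvd_card_orb_sub_one hU
        rw [← hr, ← hOU, ← hfdef] at hj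
        rcases Nat.eq_zero_or_pos j with rfl | hjpos
        · refine hbor ?_
          rw [← hf, show f = 1 by omega, one_mul]
        have hfj : f = 1 + j * r := by rw [mul_comm j r]; omega
        have heq' : g * (j * (r - 2) + 1) = k * (1 + j * r) := by
          rw [hfj] at hgN
          obtain ⟨R, hR⟩ : ∃ R, r = R + 2 := ⟨r - 2, by omega⟩
          rw [hR, Nat.add_sub_cancel] at hgN ⊢
          apply Nat.eq_of_mul_eq_mul_left (show 0 < R + 2 by omega)
          calc (R + 2) * (g * (j * R + 1)) = g * ((1 + j * (R + 2)) * R + 2) := by ring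
            _ = _ := by rw [hgN]; ring
        have hOKc : OK.card * (2 * k) = Nat.card H := by
          have := card_orb_mul (H := H) (rep OK)
          rwa [(rep_spec hOKm).2, hKn, hmK] at this
        rcases gen_arith hr3 hk2 hkr hjpos heq' with ⟨rfl, hkk, hgr⟩ | ⟨hr', hk', hj', hg'⟩
        · have hnM : nH H M = 2 * k := by
            rw [← nH_of_mem_orb hrepK, hKn, hmK]
          refine .gen ⟨r, k, hU, hr.symm, hnk, by omega, hkk, ?_,
            ⟨y, hyH, hyb, hys, hyo, hymx, hnM⟩, orderOf_le_of_orbits (by omega) ?_⟩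
          · rw [← hf, hfj, one_mul, add_comm]
          · intro O' hO'
            by_cases h1 : O' = OU
            · rw [h1, hmU]; omega
            by_cases h2 : O' = OK
            · rw [h2, hmK]; omega
            have : O' ∈ S := Finset.mem_erase.2 ⟨h2, Finset.mem_erase.2 ⟨h1, hO'⟩⟩
            rw [hS, Finset.mem_singleton] at this
            rw [this]
            exact hgr
        · have hN60 : Nat.card H = 60 := by rw [← hf, hfj, hr', hk', hj']
          have hOne : O ≠ OK := (Finset.mem_erase.1 hOS).1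
          have hOne' : O ≠ OU := (Finset.mem_erase.1 hOm).1
          refine .a5 hN60 (equiv_alt_five hN60 OK OU O hne hOne.symm hOne'.symm ?_
            ⟨by rw [hmK, hk']; norm_num, ?_⟩ ⟨by rw [hmU, hr']; norm_num, ?_⟩
            ⟨by rw [show mH H (rep O) = 5 from hg']; norm_num, ?_⟩) (fun _ => ?_)
          · intro O'
            constructor
            · intro hO'
              by_cases h1 : O' = OU
              · exact Or.inr (Or.inl h1)
              by_cases h2 : O' = OK
              · exact Or.inl h2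
              have : O' ∈ S := Finset.mem_erase.2 ⟨h2, Finset.mem_erase.2 ⟨h1, hO'⟩⟩
              rw [hS, Finset.mem_singleton] at this
              exact Or.inr (Or.inr this)
            · rintro (rfl | rfl | rfl)
              · exact hOKm
              · exact hOUm
              · exact Finset.mem_of_mem_erase hOm
          · rw [hk', hN60] at hOKc; rw [hmK, hk']; omega
          · rw [hmU, hr', ← hfdef, hfj, hr', hj']
          · rw [hn, hg', hN60] at hcO; rw [show mH H (rep O) = 5 from hg']; omega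
          · obtain ⟨i, hp, hi⟩ := FiniteField.card F p
            have h3 : 3 ∣ Fintype.card F := by
              rw [← hr', hr, mH, ← card_Uinf]
              exact Subgroup.card_dvd_of_le inf_le_left
            rw [hi] at h3
            exact ((Nat.prime_dvd_prime_iff_eq Nat.prime_three hp).1
              (Nat.prime_three.dvd_of_dvd_pow h3)).symm

end Cfsg.Agent.H6
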