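import Cfsg.Agent.H6.Counting

/-!
# Dickson's case distinction for all subgroups of `PSL₂(q)`
-/

set_option autoImplicit false

open Matrix MatrixGroups

namespace Cfsg.Agent.H6

variable {F : Type*} [Field F] [Fintype F] (p : ℕ) [Fact p.Prime] [CharP F p]

/-- Every subgroup is conjugate to one described by `Outcome`. -/
theorem exists_outcome (H : Subgroup PSL(2, F)) : ∃ c : PSL(2, F), Outcome (cj c H) p := by
  by_cases hno : ∀ M ∈ cls H, IsTor M
  · exact ⟨1, by rw [cj_one]; exact outcome_no_uni p hno⟩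
  push Not at hno
  obtain ⟨M, hM, hMT⟩ := hno
  obtain ⟨c, hc⟩ := (isTor_or_isUni hM).resolve_left hMT
  refine ⟨c, outcome_uni p ?_⟩
  obtain ⟨x, hx, hx1, rfl⟩ := mem_cls.1 hM
  refine mem_cls.2 ⟨c * x * c⁻¹, Subgroup.mem_map_of_mem _ hx, fun e => hx1 ?_, (mx_conj c x).trans hc⟩
  simpa [mul_assoc] using congrArg (fun z => c⁻¹ * z * c) e

end Cfsg.Agent.H6
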