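import Cfsg.Agent.H6.Dickson

/-!
# Normal form of a subgroup of subfield type
-/

set_option autoImplicit false

open Matrix MatrixGroups

namespace Cfsg.Agent.H6

variable {F : Type*} [Field F]

/-- Antidiagonal element. -/
def anti (c : Fˣ) : SL(2, F) := sl2 0 (-((c⁻¹ : Fˣ) : F)) (c : F) 0 (by simp)

/-- `diagSL` as a homomorphism. -/
def diagMon : Fˣ →* SL(2, F) := MonoidHom.mk' diagSL diagSL_mul

lemma diagMon_apply (s : Fˣ) : diagMon s = diagSL s := rfl

lemma diagSL_conj_up (s : Fˣ) (a : F) :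
    diagSL s * up a * (diagSL s)⁻¹ = up (((s ^ 2 : Fˣ) : F) * a) := by
  have h := Units.mul_inv s
  rw [mul_inv_eq_iff_eq_mul]
  apply sl2_ext <;> simp [diagSL, up, sl2_mul, sq] <;> grind

lemma π_diagSL_eq_one_iff {s : Fˣ} : π (diagSL s) = 1 ↔ s ^ 2 = 1 := by
  rw [π_eq_one_iff_isScal, sq, mul_eq_one_iff_eq_inv, Units.ext_iff]
  simp [IsScal, diagSL]

lemma orderOf_π_diagSL (s : Fˣ) : orderOf (π (diagSL s)) = orderOf (s ^ 2) := by
  refine orderOf_eq_orderOf_iff.2 fun n => ?_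
  rw [← map_pow, ← diagMon_apply, ← map_pow, diagMon_apply, π_diagSL_eq_one_iff,
    ← pow_mul, ← pow_mul, mul_comm]

variable [Fintype F]

lemma mH_cj_cj (c : PSL(2, F)) (H M : Subgroup PSL(2, F)) :
    mH (cj c H) (cj c M) = mH H M := by
  rw [mH, mH, cj, cj, ← Subgroup.map_inf _ _ _ (MulEquiv.injective _)]
  exact card_cj c _

lemma nH_cj_cj (c : PSL(2, F)) (H M : Subgroup PSL(2, F)) :
    nH (cj c H) (cj c M) = nH H M := by
  have e : Subgroup.normalizer (cj c M : Set PSL(2, F)) =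
      cj c (Subgroup.normalizer (M : Set PSL(2, F))) := by
    ext x
    rw [mem_cj, ← cj_eq_iff_mem_normalizer, ← cj_eq_iff_mem_normalizer]
    constructor
    · intro h
      have := congrArg (cj c⁻¹) h
      simpa [cj_cj, cj_one, mul_assoc] using this
    · intro h
      have := congrArg (cj c) h
      simpa [cj_cj, mul_assoc] using this
  rw [nH, nH, e, cj, cj, ← Subgroup.map_inf _ _ _ (MulEquiv.injective _)]
  exact card_cj c _

/-- Data of a subgroup of subfield type in normal form. -/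
structure Std (H : Subgroup PSL(2, F)) (r k : ℕ) (s c : Fˣ) : Prop where
  hs : π (diagSL s) ∈ H
  hso : orderOf (π (diagSL s)) = k
  hc : π (anti c) ∈ H
  hr : mH H (Uinf F) = r
  hn : nH H (Uinf F) = r * k
  hcard : Nat.card H = (r + 1) * (r * k)

/-- A subgroup of subfield type is conjugate to one in normal form. -/
lemma gen_std {H : Subgroup PSL(2, F)} {r k : ℕ} (hG : Gen H r k) :
    ∃ (d : PSL(2, F)) (s c : Fˣ), Std (cj d H) r k s c := by
  obtain ⟨hU, hr, hn, hk1, hkr, hcard, ⟨y, hyH, hyb, hys, hyo, hymx, hny⟩, -⟩ := hG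
  obtain ⟨g, rfl, ht⟩ := hys
  have h10 : g 1 0 = 0 := mem_borel.1 hyb
  have d' := sl2_det g
  rw [h10, mul_zero, sub_zero] at d'
  have hne : g 0 0 - g 1 1 ≠ 0 := fun e => ht (by
    rw [sub_eq_zero] at e
    simp only [tr, e]
    rw [e] at d'
    linear_combination 4 * d')
  let s : Fˣ := ⟨g 0 0, g 1 1, d', by rw [mul_comm]; exact d'⟩
  set t : F := g 0 1 / (g 0 0 - g 1 1) with htdef
  have he : up t * g * (up t)⁻¹ = diagSL s := by
    rw [mul_inv_eq_iff_eq_mul]
    have : t * (g 0 0 - g 1 1) = g 0 1 := div_mul_cancel₀ _ hne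
    apply sl2_ext <;> simp [up, diagSL, sl2_mul, h10, s] <;> grind
  set d : PSL(2, F) := π (up t) with hd
  have hdb : d ∈ Subgroup.normalizer (Uinf F : Set PSL(2, F)) := by
    rw [normalizer_Uinf]; exact mem_borel.2 rfl
  have hdU : cj d (Uinf F) = Uinf F := cj_eq_iff_mem_normalizer.2 hdb
  have hr' : mH (cj d H) (Uinf F) = r := by rw [← hdU, mH_cj_cj, hr]
  have hn' : nH (cj d H) (Uinf F) = r * k := by rw [← hdU, nH_cj_cj, hn]
  have hed : d * π g * d⁻¹ = π (diagSL s) := by rw [hd, ← map_inv, ← map_mul, ← map_mul, he]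
  have hts : tr (diagSL s) ^ 2 ≠ 4 := by rw [← he, tr_conj]; exact ht
  have hmx : cj d (mx (π g)) = tor (diagSL s) := by
    rw [← mx_π (diagSL s), ← hed, mx_conj]
  have hsH : π (diagSL s) ∈ cj d H := hed ▸ Subgroup.mem_map_of_mem _ hyH
  have hso : orderOf (π (diagSL s)) = k := by
    rw [← hed, ← hyo]
    exact orderOf_injective (MulAut.conj d).toMonoidHom (MulEquiv.injective _) _
  have hnt : nH (cj d H) (tor (diagSL s)) = 2 * k := by rw [← hmx, nH_cj_cj, hny]
  have htb : tor (diagSL s) ≤ borel F := by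
    rw [← hmx]
    intro x hx
    rw [mem_cj] at hx
    have hdb' : d ∈ borel F := mem_borel.2 rfl
    have h := mul_mem (mul_mem hdb' (hymx hx)) (inv_mem hdb')
    simpa [mul_assoc] using h
  -- the torus part of `H` has order at most `k`
  have hTle : mH (cj d H) (tor (diagSL s)) ≤ k := by
    set H' := cj d H
    have hr2 : 0 < r := hr' ▸ Nat.card_pos
    refine Nat.le_of_mul_le_mul_left ?_ hr2
    rw [← hn', nH, normalizer_Uinf, ← hr', mH, mH, ← Nat.card_prod]
    refine Nat.card_le_card_of_injective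
      (fun x => ⟨(x.1 : PSL(2, F)) * x.2, mul_mem x.1.2.2 x.2.2.2,
        mul_mem (Uinf_le_borel x.1.2.1) (htb x.2.2.1)⟩) ?_
    rintro ⟨u, v⟩ ⟨u', v'⟩ e
    have e' : (u : PSL(2, F)) * v = u' * v' := congrArg Subtype.val e
    have e2 : (u' : PSL(2, F))⁻¹ * u = v' * (v : PSL(2, F))⁻¹ := by
      rw [inv_mul_eq_iff_eq_mul, ← mul_assoc, ← e', mul_inv_cancel_right]
    have h1 : (u' : PSL(2, F))⁻¹ * u = 1 := by
      by_contra h1
      refine not_isSS_of_mem_isUni isUni_Uinf (mul_mem (inv_mem u'.2.1) u.2.1) ?_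
      exact isSS_of_mem_isTor ⟨_, hts, rfl⟩ (e2 ▸ mul_mem v'.2.1 (inv_mem v.2.1)) h1
    refine Prod.ext (Subtype.ext (inv_mul_eq_one.1 h1).symm) (Subtype.ext ?_)
    exact (mul_inv_eq_one.1 (e2 ▸ h1)).symm
  -- an element inverting the torus
  obtain ⟨w, hw, hwt⟩ : ∃ w ∈ cj d H ⊓ Subgroup.normalizer (tor (diagSL s) : Set PSL(2, F)),
      w ∉ tor (diagSL s) := by
    by_contra hcon
    push Not at hcon
    have : nH (cj d H) (tor (diagSL s)) ≤ mH (cj d H) (tor (diagSL s)) :=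
      Subgroup.card_le_of_le fun x hx => ⟨hcon x hx, hx.1⟩
    omega
  obtain ⟨hwH, hwn⟩ := hw
  rw [normalizer_tor hts] at hwn
  obtain ⟨x, hxn, rfl⟩ := hwn
  have hinv : x * diagSL s * x⁻¹ = (diagSL s)⁻¹ :=
    ((mem_torNorm hts).1 hxn).resolve_left fun h => hwt (mem_tor.2 (conj_eq_self_iff.1 h))
  rw [mul_inv_eq_iff_eq_mul] at hinv
  have hs1 : (s : F) - ((s⁻¹ : Fˣ) : F) ≠ 0 := hne
  have h00 : x 0 0 = 0 := by
    have h := congrArg (fun z : SL(2, F) => z 0 0) hinv
    simp [sl2_mul, sl2_inv_00, sl2_inv_01, diagSL] at h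
    exact (mul_eq_zero.1 (show x 0 0 * ((s : F) - ((s⁻¹ : Fˣ) : F)) = 0 by
      rw [Units.val_inv_eq_inv_val]; linear_combination h)).resolve_right hs1
  have h11 : x 1 1 = 0 := by
    have h := congrArg (fun z : SL(2, F) => z 1 1) hinv
    simp [sl2_mul, sl2_inv_11, sl2_inv_10, diagSL] at h
    exact (mul_eq_zero.1 (show x 1 1 * ((s : F) - ((s⁻¹ : Fˣ) : F)) = 0 by
      rw [Units.val_inv_eq_inv_val]; linear_combination (-1 : F) * h)).resolve_right hs1
  have dx := sl2_det x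
  rw [h00, h11, zero_mul, zero_sub] at dx
  have hc0 : x 1 0 ≠ 0 := fun e => by rw [e] at dx; simp at dx
  refine ⟨d, s, Units.mk0 _ hc0, hsH, hso, ?_, hr', hn', (card_cj d H).trans hcard⟩
  have : x = anti (Units.mk0 _ hc0) := by
    apply sl2_ext <;> simp [anti, h00, h11]
    field_simp
    linear_combination -dx
  rwa [← this]

end Cfsg.Agent.H6
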