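import Cfsg.Agent.H6.Borel

/-!
# Maps from `PSL₂` and `PGL₂` of a field into `PSL₂` of a bigger one
-/

set_option autoImplicit false

open Matrix MatrixGroups

namespace Cfsg.Agent.H6

variable {K F : Type*} [Field K] [Field F]

/-- `SL₂` of a field is generated by the two unitriangular groups. -/
lemma sl2_mem_of_up_lo {S : Subgroup SL(2, K)} (hu : ∀ a, up a ∈ S) (hl : ∀ b, lo b ∈ S)
    (g : SL(2, K)) : g ∈ S := by
  have key : ∀ g : SL(2, K), g 1 0 ≠ 0 → g ∈ S := by
    intro g h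
    have e : g = up ((g 0 0 - 1) / g 1 0) * lo (g 1 0) * up ((g 1 1 - 1) / g 1 0) := by
      have d := sl2_det g
      apply sl2_ext <;> simp [up, lo, sl2_mul] <;> field_simp <;> grind
    rw [e]
    exact S.mul_mem (S.mul_mem (hu _) (hl _)) (hu _)
  by_cases h : g 1 0 = 0
  · have h' : (g * lo 1 : SL(2, K)) 1 0 ≠ 0 := by
      intro e
      have d := sl2_det g
      simp [sl2_mul, lo, h] at e
      rw [h, e] at d
      simp at d
    simpa using S.mul_mem (key _ h') (S.inv_mem (hl 1))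
  · exact key g h

/-- A homomorphism out of `PSL₂` sending both unitriangular groups into `H` has range in `H`. -/
lemma psl_range_le {G : Type*} [Group G] (f : PSL(2, K) →* G) {H : Subgroup G}
    (hu : ∀ a, f (π (up a)) ∈ H) (hl : ∀ b, f (π (lo b)) ∈ H) : f.range ≤ H := by
  rintro _ ⟨x, rfl⟩
  obtain ⟨g, rfl⟩ := π_surjective x
  exact sl2_mem_of_up_lo (S := H.comap (f.comp π)) hu hl g

/-- Change of field on `PSL₂`. -/
def pslMap (ι : K →+* F) : PSL(2, K) →* PSL(2, F) :=
  QuotientGroup.lift _ (π.comp (SpecialLinearGroup.map ι)) (fun g hg => by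
    rw [MonoidHom.mem_ker, MonoidHom.comp_apply, π_eq_one_iff_isScal]
    obtain ⟨h1, h2, h3⟩ := mem_center_iff_isScal.1 hg
    simp [IsScal, h1, h2, h3])

lemma pslMap_π (ι : K →+* F) (g : SL(2, K)) :
    pslMap ι (π g) = π (SpecialLinearGroup.map ι g) := rfl

lemma pslMap_injective (ι : K →+* F) : Function.Injective (pslMap ι) := by
  refine (injective_iff_map_eq_one _).2 fun x hx => ?_
  obtain ⟨g, rfl⟩ := π_surjective x
  rw [pslMap_π, π_eq_one_iff_isScal] at hx
  obtain ⟨h1, h2, h3⟩ := hx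
  rw [π_eq_one_iff_isScal]
  exact ⟨ι.injective (by simpa using h1), ι.injective (by simpa using h2),
    ι.injective (by simpa using h3)⟩

section pgl

variable (ι : K →+* F) (hsq : ∀ x : K, IsSquare (ι x))

/-- A matrix scaled to determinant one. -/
noncomputable def scaleSL (g : GL (Fin 2) K) : SL(2, F) :=
  let r := Classical.choose (hsq (g : Matrix (Fin 2) (Fin 2) K).det)
  sl2 (ι (g 0 0) / r) (ι (g 0 1) / r) (ι (g 1 0) / r) (ι (g 1 1) / r) (by
    have hr := Classical.choose_spec (hsq (g : Matrix (Fin 2) (Fin 2) K).det)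
    have hd : (g : Matrix (Fin 2) (Fin 2) K).det ≠ 0 := (Matrix.GeneralLinearGroup.det g).ne_zero
    have hr0 : r ≠ 0 := fun e => hd (ι.injective (by
      rw [hr, show Classical.choose (hsq (g : Matrix (Fin 2) (Fin 2) K).det) = r from rfl, e]; simp))
    have hrr : r * r = ι (g 0 0 * g 1 1 - g 0 1 * g 1 0) := by
      rw [← Matrix.det_fin_two]; exact hr.symm
    rw [map_sub, map_mul, map_mul] at hrr
    field_simp
    linear_combination -hrr)

/-- The scalar used by `scaleSL`. -/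
noncomputable def scaleRoot (g : GL (Fin 2) K) : F :=
  Classical.choose (hsq (g : Matrix (Fin 2) (Fin 2) K).det)

lemma scaleRoot_mul_self (g : GL (Fin 2) K) :
    scaleRoot ι hsq g * scaleRoot ι hsq g = ι (g : Matrix (Fin 2) (Fin 2) K).det :=
  (Classical.choose_spec (hsq _)).symm

lemma scaleRoot_ne_zero (g : GL (Fin 2) K) : scaleRoot ι hsq g ≠ 0 := fun e => by
  have h := scaleRoot_mul_self ι hsq g
  rw [e, zero_mul] at h
  exact (Matrix.GeneralLinearGroup.det g).ne_zero (ι.injective (h.symm.trans (map_zero ι).symm))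

lemma scaleSL_apply (g : GL (Fin 2) K) (i j : Fin 2) :
    scaleSL ι hsq g i j = ι (g i j) / scaleRoot ι hsq g := by
  fin_cases i <;> fin_cases j <;> simp [scaleSL, scaleRoot, sl2]

lemma π_scaleSL_mul (g h : GL (Fin 2) K) :
    π (scaleSL ι hsq (g * h)) = π (scaleSL ι hsq g) * π (scaleSL ι hsq h) := by
  rw [← map_mul, π_eq_iff]
  have h1 : scaleRoot ι hsq (g * h) * scaleRoot ι hsq (g * h) =
      (scaleRoot ι hsq g * scaleRoot ι hsq h) * (scaleRoot ι hsq g * scaleRoot ι hsq h) := by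
    rw [mul_mul_mul_comm, scaleRoot_mul_self, scaleRoot_mul_self, scaleRoot_mul_self,
      Matrix.GeneralLinearGroup.coe_mul, Matrix.det_mul, map_mul]
  have h0 := scaleRoot_ne_zero ι hsq g
  have h0' := scaleRoot_ne_zero ι hsq h
  rcases mul_self_eq_mul_self_iff.1 h1 with e | e
  · left
    apply sl2_ext <;>
      simp [sl2_mul, scaleSL_apply, e, Matrix.mul_apply,
        Fin.sum_univ_two] <;> field_simp
  · right
    apply sl2_ext <;>
      simp [sl2_mul, sl2_neg, scaleSL_apply, e, Matrix.mul_apply,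
        Fin.sum_univ_two] <;> field_simp <;> ring

/-- The scaling homomorphism `GL₂(K) → PSL₂(F)`. -/
noncomputable def scaleHom : GL (Fin 2) K →* PSL(2, F) :=
  MonoidHom.mk' (fun g => π (scaleSL ι hsq g)) (π_scaleSL_mul ι hsq)

lemma scaleHom_eq_one_iff (g : GL (Fin 2) K) :
    scaleHom ι hsq g = 1 ↔ g 0 1 = 0 ∧ g 1 0 = 0 ∧ g 0 0 = g 1 1 := by
  show π (scaleSL ι hsq g) = 1 ↔ _
  rw [π_eq_one_iff_isScal]
  simp [IsScal, scaleSL_apply, scaleRoot_ne_zero, div_left_inj', ι.injective.eq_iff]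

/-- Change of field `PGL₂(K) → PSL₂(F)` when every element of `K` is a square in `F`. -/
noncomputable def pglMap : PGL(2, K) →* PSL(2, F) :=
  Matrix.ProjGenLinGroup.lift (scaleHom ι hsq) (by
    ext u
    rw [MonoidHom.comp_apply, MonoidHom.one_apply, scaleHom_eq_one_iff]
    simp [Matrix.GeneralLinearGroup.coe_scalar])

lemma pglMap_mk (g : GL (Fin 2) K) :
    pglMap ι hsq (Matrix.ProjGenLinGroup.mk g) = π (scaleSL ι hsq g) := rfl

lemma pglMap_injective : Function.Injective (pglMap ι hsq) := by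
  refine (injective_iff_map_eq_one _).2 fun x hx => ?_
  obtain ⟨g, rfl⟩ := Matrix.ProjGenLinGroup.mk_surjective x
  have hx' : scaleHom ι hsq g = 1 := hx
  obtain ⟨h1, h2, h3⟩ := (scaleHom_eq_one_iff ι hsq g).1 hx'
  have hne : g 0 0 ≠ 0 := fun e => (Matrix.GeneralLinearGroup.det g).ne_zero (by
    rw [Matrix.GeneralLinearGroup.val_det_apply, Matrix.det_fin_two]; simp [e, h1])
  rw [show (1 : PGL(2, K)) = Matrix.ProjGenLinGroup.mk (.scalar (Fin 2) (Units.mk0 _ hne)) from
    (Matrix.ProjGenLinGroup.mk_scalar _).symm]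
  congr 1
  refine Units.ext (Matrix.ext fun i j => ?_)
  fin_cases i <;> fin_cases j <;> simp [Matrix.GeneralLinearGroup.coe_scalar, h1, h2, ← h3]

lemma pglMap_toPGL (x : PSL(2, K)) :
    pglMap ι hsq (ProjectiveSpecialLinearGroup.toPGL x) = pslMap ι x := by
  obtain ⟨g, rfl⟩ := π_surjective x
  show π (scaleSL ι hsq (SpecialLinearGroup.toGL g)) = π (SpecialLinearGroup.map ι g)
  have h := scaleRoot_mul_self ι hsq (SpecialLinearGroup.toGL g)
  rw [show ((SpecialLinearGroup.toGL g : GL (Fin 2) K) : Matrix (Fin 2) (Fin 2) K).det = 1 from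
    g.2, map_one] at h
  rw [π_eq_iff]
  rcases mul_self_eq_one_iff.1 h with e | e
  · left; apply sl2_ext <;> simp [scaleSL_apply, e]
  · right; apply sl2_ext <;> simp [scaleSL_apply, e, sl2_neg, div_neg]

/-- Two homomorphisms' worth of generators: `PSL₂` and the diagonal elements `diag(d,1)`. -/
lemma pgl_range_le {H : Subgroup PSL(2, F)} (hs : (pslMap ι).range ≤ H)
    (hd : ∀ (d : Kˣ) (r : F), r * r = ι (d : K) → ∀ hr : r ≠ 0, π (diagSL (Units.mk0 r hr)) ∈ H) :
    (pglMap ι hsq).range ≤ H := by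
  rintro _ ⟨x, rfl⟩
  obtain ⟨g, rfl⟩ := Matrix.ProjGenLinGroup.mk_surjective x
  set d : Kˣ := Matrix.GeneralLinearGroup.det g
  let D : GL (Fin 2) K := ⟨!![(d : K), 0; 0, 1], !![((d⁻¹ : Kˣ) : K), 0; 0, 1],
    by ext i j; fin_cases i <;> fin_cases j <;> simp,
    by ext i j; fin_cases i <;> fin_cases j <;> simp⟩
  have hDdet : Matrix.GeneralLinearGroup.det D = d := by
    ext; simp [D, Matrix.det_fin_two]
  have hDmem : scaleHom ι hsq D ∈ H := by
    have hr := scaleRoot_mul_self ι hsq D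
    have hD : (D : Matrix (Fin 2) (Fin 2) K).det = (d : K) := congrArg Units.val hDdet
    rw [hD] at hr
    have h0 := scaleRoot_ne_zero ι hsq D
    convert hd d _ hr h0 using 1
    show π (scaleSL ι hsq D) = _
    congr 1
    apply sl2_ext <;> simp [scaleSL_apply, D, diagSL, sl2, ← hr, mul_div_assoc, h0]
  have hrest : scaleHom ι hsq (g * D⁻¹) ∈ H := by
    let s : SL(2, K) := ⟨(g * D⁻¹ : GL (Fin 2) K), by
      have : Matrix.GeneralLinearGroup.det (g * D⁻¹) = 1 := by
        rw [map_mul, map_inv, hDdet, mul_inv_cancel]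
      exact congrArg Units.val this⟩
    have hs' : scaleHom ι hsq (g * D⁻¹) = pslMap ι (π s) := by
      rw [← pglMap_toPGL ι hsq (π s)]
      exact congrArg (fun z => π (scaleSL ι hsq z)) (Units.ext rfl : g * D⁻¹ = SpecialLinearGroup.toGL s)
    rw [hs']; exact hs ⟨_, rfl⟩
  have := H.mul_mem hrest hDmem
  rwa [← map_mul, inv_mul_cancel_right] at this

end pgl

/-- Conjugation by `diag(a, 1)` on `SL₂`. -/
def conjD (a : Fˣ) : SL(2, F) →* SL(2, F) where
  toFun g := sl2 (g 0 0) ((a : F) * g 0 1) ((a⁻¹ : Fˣ) * g 1 0) (g 1 1) (by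
    have h := Units.mul_inv a
    have d := sl2_det g
    linear_combination d - (g 0 1 * g 1 0) * h)
  map_one' := by apply sl2_ext <;> simp
  map_mul' g h := by
    have ha := Units.mul_inv a
    apply sl2_ext <;> simp [sl2_mul] <;> grind

lemma conjD_00 (a : Fˣ) (g : SL(2, F)) : conjD a g 0 0 = g 0 0 := rfl
lemma conjD_11 (a : Fˣ) (g : SL(2, F)) : conjD a g 1 1 = g 1 1 := rfl

/-- Conjugation by `diag(a, 1)` on `PSL₂`. -/
def conjDP (a : Fˣ) : PSL(2, F) →* PSL(2, F) :=
  QuotientGroup.lift _ (π.comp (conjD a)) (fun g hg => by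
    rw [MonoidHom.mem_ker, MonoidHom.comp_apply, π_eq_one_iff_isScal]
    obtain ⟨h1, h2, h3⟩ := mem_center_iff_isScal.1 hg
    simp [IsScal, conjD, h1, h2, h3])

lemma conjDP_π (a : Fˣ) (g : SL(2, F)) : conjDP a (π g) = π (conjD a g) := rfl

lemma conjDP_injective (a : Fˣ) : Function.Injective (conjDP a) := by
  refine (injective_iff_map_eq_one _).2 fun x hx => ?_
  obtain ⟨g, rfl⟩ := π_surjective x
  rw [conjDP_π, π_eq_one_iff_isScal] at hx
  obtain ⟨h1, h2, h3⟩ := hx
  simp [conjD] at h1 h2 h3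
  rw [π_eq_one_iff_isScal]
  exact ⟨h1, h2, h3⟩

end Cfsg.Agent.H6
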