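import Cfsg.Agent.H6.GenNormalForm
import Cfsg.Agent.H6.SubfieldMaps
import Cfsg.Agent.H1.Orders

/-!
# Subgroups of subfield type are `PSL₂` or `PGL₂` of a subfield
-/

set_option autoImplicit false

open Matrix MatrixGroups

namespace Cfsg.Agent.H6

variable {F : Type*} [Field F] [Fintype F]

/-- The parameters of the upper unitriangular elements lying in `H`. -/
def upSet (H : Subgroup PSL(2, F)) : AddSubgroup F where
  carrier := {a | π (up a) ∈ H}
  add_mem' := fun {a b} ha hb => by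
    simp only [Set.mem_setOf_eq, up_add, map_mul] at *
    exact mul_mem ha hb
  zero_mem' := by simp [up_zero]
  neg_mem' := fun {a} ha => by
    simp only [Set.mem_setOf_eq] at *
    have e : up (-a) = (up a)⁻¹ := by
      rw [eq_inv_iff_mul_eq_one, ← up_add, neg_add_cancel, up_zero]
    rw [e, map_inv]
    exact inv_mem ha

lemma mem_upSet {H : Subgroup PSL(2, F)} {a : F} : a ∈ upSet H ↔ π (up a) ∈ H := Iff.rfl

lemma card_upSet (H : Subgroup PSL(2, F)) : Nat.card (upSet H) = mH H (Uinf F) := by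
  refine Nat.card_congr (Equiv.ofBijective
    (fun a => ⟨π (up a.1), ⟨mem_Uinf.2 ⟨a.1, rfl⟩, a.2⟩⟩) ⟨fun a b e =>
      Subtype.ext (π_up_eq_iff.1 (congrArg Subtype.val e)), ?_⟩)
  rintro ⟨x, hx1, hx2⟩
  obtain ⟨a, rfl⟩ := mem_Uinf.1 hx1
  exact ⟨⟨a, hx2⟩, rfl⟩

section std

variable {H : Subgroup PSL(2, F)} {r k : ℕ} {s c : Fˣ}

lemma Std.diag_mem (h : Std H r k s c) {v : Fˣ} (hv : v ^ 2 ∈ Subgroup.zpowers (s ^ 2)) :
    π (diagSL v) ∈ H := by
  obtain ⟨i, hi⟩ := hv
  have hi' : (s ^ 2) ^ i = v ^ 2 := hi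
  have e : π (diagSL v) = π (diagSL s) ^ i := by
    rw [← map_zpow, ← diagMon_apply, ← diagMon_apply, ← map_zpow, π_eq_iff]
    have hvs : (v : F) * v = ((s ^ i : Fˣ) : F) * ((s ^ i : Fˣ) : F) := by
      rw [← Units.val_mul, ← Units.val_mul, ← sq, ← hi', ← mul_zpow, ← sq]
    rcases mul_self_eq_mul_self_iff.1 hvs with e | e
    · exact Or.inl (congrArg _ (Units.ext e))
    · right
      apply sl2_ext <;> simp [diagMon, diagSL, sl2_neg, Units.val_inv_eq_inv_val, e, inv_neg]
  rw [e]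
  exact zpow_mem h.hs i

lemma Std.chi_mem (h : Std H r k s c) {g : SL(2, F)} (hg : π g ∈ H) (h10 : g 1 0 = 0) :
    ∃ v : Fˣ, (v : F) = g 0 0 ∧ v ^ 2 ∈ Subgroup.zpowers (s ^ 2) ∧ g 0 1 / g 0 0 ∈ upSet H := by
  classical
  set K := H ⊓ borel F
  let f : K →* Fˣ := chiB.comp (Subgroup.inclusion (inf_le_right : K ≤ borel F))
  have hfval : ∀ (z : SL(2, F)) (hz : π z ∈ H) (hz' : z 1 0 = 0),
      f ⟨π z, hz, mem_borel.2 hz'⟩ = chiSL ⟨z, hz'⟩ := fun z _ hz' => chiB_π ⟨z, hz'⟩
  have hker : f.ker = (Uinf F ⊓ H).subgroupOf K := by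
    ext x
    rw [MonoidHom.mem_ker, Subgroup.mem_subgroupOf]
    exact (chiB_eq_one_iff _).trans ⟨fun h => ⟨h, x.2.1⟩, fun h => h.1⟩
  have hcard : Nat.card f.range = k := by
    have h1 := f.ker.card_mul_index
    rw [Subgroup.index_ker, hker, Nat.card_congr (Subgroup.subgroupOfEquivOfLe
      (show Uinf F ⊓ H ≤ K from fun x hx => ⟨hx.2, Uinf_le_borel hx.1⟩)).toEquiv] at h1
    have h2 : nH H (Uinf F) = Nat.card K := by rw [nH, normalizer_Uinf]
    rw [← h2, h.hn, ← mH, h.hr] at h1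
    exact Nat.eq_of_mul_eq_mul_left (h.hr ▸ Nat.card_pos) h1
  have hrange : Subgroup.zpowers (s ^ 2) = f.range := by
    refine Subgroup.eq_of_le_of_card_ge
      (Subgroup.zpowers_le.2 ⟨⟨π (diagSL s), h.hs, mem_borel.2 rfl⟩, ?_⟩) ?_
    · exact (hfval (diagSL s) h.hs rfl).trans (Units.ext (by simp [chiSL_val, diagSL, sq]))
    · rw [Nat.card_zpowers, ← orderOf_π_diagSL, h.hso, hcard]
  have d := sl2_det g
  rw [h10, mul_zero, sub_zero] at d
  let v : Fˣ := ⟨g 0 0, g 1 1, d, by rw [mul_comm]; exact d⟩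
  have hv : v ^ 2 ∈ Subgroup.zpowers (s ^ 2) := by
    rw [hrange]
    exact ⟨_, (hfval g hg h10).trans (Units.ext (by simp [chiSL_val, v]))⟩
  refine ⟨v, rfl, hv, ?_⟩
  have e : g = diagSL v * up (g 0 1 / g 0 0) := by
    have h0 : g 0 0 ≠ 0 := fun e => by rw [e] at d; simp at d
    apply sl2_ext <;> simp [diagSL, up, sl2_mul, h10, v, mul_div_cancel₀ _ h0]
  have h' := mul_mem (inv_mem (h.diag_mem hv)) hg
  rw [e, map_mul, inv_mul_cancel_left] at h'
  exact h'

lemma Std.card_borel (h : Std H r k s c) : Nat.card (H ⊓ borel F : Subgroup PSL(2, F)) = r * k := by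
  rw [← h.hn, nH, normalizer_Uinf]

lemma Std.bruhat (h : Std H r k s c) {g : SL(2, F)} (hg : π g ∈ H) (h10 : g 1 0 ≠ 0) :
    g 0 0 / g 1 0 ∈ upSet H ∧
      ∃ t : Fˣ, t ∈ Subgroup.zpowers (s ^ 2) ∧ (g 1 0) ^ 2 = (c : F) ^ 2 * t := by
  classical
  have := Fintype.ofFinite PSL(2, F)
  let Φ : upSet H × (H ⊓ borel F : Subgroup PSL(2, F)) →
      {x : PSL(2, F) // x ∈ H ∧ x ∉ borel F} := fun ab =>
    ⟨π (up (ab.1 : F)) * π (anti c) * ab.2, mul_mem (mul_mem ab.1.2 h.hc) ab.2.2.1, fun hx => by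
      have h1 := mul_mem (mul_mem (inv_mem (mem_borel.2 rfl : π (up (ab.1 : F)) ∈ borel F)) hx)
        (inv_mem ab.2.2.2)
      rw [← mul_assoc, ← mul_assoc, inv_mul_cancel, one_mul, mul_inv_cancel_right, mem_borel] at h1
      exact c.ne_zero h1⟩
  have hinj : Function.Injective Φ := by
    rintro ⟨a, b⟩ ⟨a', b'⟩ e
    have e' : π (up (a : F)) * π (anti c) * b = π (up (a' : F)) * π (anti c) * b' :=
      congrArg Subtype.val e
    have key : π ((anti c)⁻¹ * up ((a : F) - a') * anti c) = (b' : PSL(2, F)) * (b : PSL(2, F))⁻¹ := by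
      have hu : up (a : F) = up (a' : F) * up ((a : F) - a') := by
        rw [← up_add, add_sub_cancel]
      rw [hu, map_mul] at e'
      rw [map_mul, map_mul, map_inv, eq_mul_inv_iff_mul_eq]
      calc (π (anti c))⁻¹ * π (up ((a : F) - a')) * π (anti c) * b
          = (π (anti c))⁻¹ * ((π (up (a' : F)))⁻¹ *
              (π (up (a' : F)) * π (up ((a : F) - a')) * π (anti c) * b)) := by group
        _ = b' := by rw [e']; group
    have hb : π ((anti c)⁻¹ * up ((a : F) - a') * anti c) ∈ borel F :=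
      key ▸ mul_mem b'.2.2 (inv_mem b.2.2)
    rw [mem_borel] at hb
    simp [anti, up, sl2_mul, sl2_inv_00, sl2_inv_01, sl2_inv_10, sl2_inv_11] at hb
    have haa : a = a' := Subtype.ext (sub_eq_zero.1 hb)
    subst haa
    exact Prod.ext rfl (Subtype.ext (mul_left_cancel e'))
  have hle : Nat.card {x : PSL(2, F) // x ∈ H ∧ x ∉ borel F} ≤
      Nat.card (upSet H × (H ⊓ borel F : Subgroup PSL(2, F))) := by
    rw [Nat.card_prod, card_upSet, h.hr, h.card_borel]
    have h1 : Nat.card {x : PSL(2, F) // x ∈ H ∧ x ∈ borel F} +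
        Nat.card {x : PSL(2, F) // x ∈ H ∧ x ∉ borel F} = Nat.card H := by
      rw [← Nat.card_sum]
      exact Nat.card_congr
        { toFun := fun z => z.elim (fun z => ⟨z.1, z.2.1⟩) (fun z => ⟨z.1, z.2.1⟩)
          invFun := fun z => if hz : (z : PSL(2, F)) ∈ borel F then .inl ⟨z.1, z.2, hz⟩
            else .inr ⟨z.1, z.2, hz⟩
          left_inv := by rintro (⟨z, hz, hz'⟩ | ⟨z, hz, hz'⟩) <;> simp [hz']
          right_inv := fun z => by by_cases hz : (z : PSL(2, F)) ∈ borel F <;> simp [hz] }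
    have h2 : Nat.card {x : PSL(2, F) // x ∈ H ∧ x ∈ borel F} = r * k := h.card_borel
    rw [h2, h.hcard, Nat.add_mul, one_mul] at h1
    omega
  have hbij : Function.Bijective Φ :=
    hinj.bijective_of_nat_card_le hle
  obtain ⟨⟨a, b⟩, hab⟩ := hbij.2 ⟨π g, hg, fun hb => h10 (mem_borel.1 hb)⟩
  have hab' : π (up (a : F)) * π (anti c) * b = π g := congrArg Subtype.val hab
  obtain ⟨hbH, z, hz, hzb⟩ := b.2
  obtain ⟨v, hv, hvT, -⟩ := h.chi_mem (g := z) (hzb ▸ hbH) hz
  have hz' : z 1 0 = 0 := hz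
  rw [← hzb, ← map_mul, ← map_mul] at hab'
  have hgz : ∃ ε : F, ε * ε = 1 ∧ g 0 0 = ε * ((a : F) * c * v) ∧ g 1 0 = ε * (c * v) := by
    rcases π_eq_iff.1 hab'.symm with e | e
    · refine ⟨1, one_mul _, ?_, ?_⟩ <;> rw [e] <;> simp [anti, up, sl2_mul, hz', hv]
    · refine ⟨-1, by ring, ?_, ?_⟩ <;> rw [e] <;> simp [anti, up, sl2_mul, sl2_neg, hz', hv]
  obtain ⟨ε, hε, e00, e10⟩ := hgz
  have hε0 : ε ≠ 0 := fun e => by rw [e, mul_zero] at hε; exact zero_ne_one hε
  refine ⟨?_, v ^ 2, hvT, ?_⟩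
  · have : g 0 0 / g 1 0 = a := by
      rw [e00, e10]
      field_simp
    rw [this]
    exact a.2
  · rw [e10, Units.val_pow_eq_pow_val]
    linear_combination ((c : F) * v) ^ 2 * hε

lemma Std.lower (h : Std H r k s c) {a : F} (ha : a ∈ upSet H) :
    π (lo (-((c : F) ^ 2 * a))) ∈ H := by
  have e : anti c * up a * (anti c)⁻¹ = lo (-((c : F) ^ 2 * a)) := by
    apply sl2_ext <;>
      simp [anti, up, lo, sl2_mul, sl2_inv_00, sl2_inv_01, sl2_inv_10, sl2_inv_11] <;> ring
  rw [← e, map_mul, map_mul, map_inv]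
  exact mul_mem (mul_mem h.hc ha) (inv_mem h.hc)

lemma Std.sq_mem (h : Std H r k s c) {a : F} (ha : a ∈ upSet H) (ha0 : a ≠ 0) :
    ∃ t : Fˣ, t ∈ Subgroup.zpowers (s ^ 2) ∧ (t : F) = (c : F) ^ 2 * a ^ 2 := by
  have hne : lo (-((c : F) ^ 2 * a)) 1 0 ≠ 0 := by
    simp [lo, ha0]
  obtain ⟨-, t, ht, e⟩ := h.bruhat (h.lower ha) hne
  refine ⟨t, ht, mul_left_cancel₀ (pow_ne_zero 2 c.ne_zero) ?_⟩
  rw [← e]
  simp [lo]
  ring

lemma Std.mul_mem_upSet (h : Std H r k s c) {t : Fˣ} (ht : t ∈ Subgroup.zpowers (s ^ 2)) {a : F}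
    (ha : a ∈ upSet H) : (t : F) * a ∈ upSet H := by
  obtain ⟨i, hi⟩ := ht
  have hi' : (s ^ 2) ^ i = t := hi
  have hv : (s ^ i) ^ 2 = t := by rw [sq, ← mul_zpow, ← sq, hi']
  have hd : π (diagSL (s ^ i)) ∈ H := h.diag_mem (by rw [hv]; exact ⟨i, hi⟩)
  have := mul_mem (mul_mem hd ha) (inv_mem hd)
  rwa [← map_mul, ← map_inv, ← map_mul, diagSL_conj_up, hv] at this

/-- The subfield attached to a subgroup in normal form. -/
lemma Std.field (h : Std H r k s c) (hr : 1 < r) :
    ∃ (K : Subfield F) (a : Fˣ), Nat.card K = r ∧ (∀ x : F, x ∈ K ↔ x * a ∈ upSet H) ∧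
      ((c : F) ^ 2 * (a : F) ^ 2) ∈ K ∧ (∀ t ∈ Subgroup.zpowers (s ^ 2), ((t : Fˣ) : F) ∈ K) := by
  have hcard := (card_upSet H).trans h.hr
  have : Nontrivial (upSet H) := Finite.one_lt_card_iff_nontrivial.1 (by omega)
  obtain ⟨⟨a, ha⟩, hne⟩ := exists_ne (0 : upSet H)
  have ha0 : a ≠ 0 := fun e => hne (Subtype.ext e)
  obtain ⟨t₀, ht₀, et₀⟩ := h.sq_mem ha ha0
  let A : Set F := {x | x * a ∈ upSet H}
  have hone : (1 : F) ∈ A := by simpa [A] using ha
  have hsqA : ∀ x ∈ A, ∀ y ∈ A, x * x * y ∈ A := by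
    intro x hx y hy
    by_cases hx0 : x = 0
    · simp [A, hx0]
    · obtain ⟨t, ht, et⟩ := h.sq_mem (a := x * a) hx (mul_ne_zero hx0 ha0)
      have := h.mul_mem_upSet (mul_mem ht (inv_mem ht₀)) hy
      show x * x * y * a ∈ upSet H
      convert this using 1
      rw [Units.val_mul, Units.val_inv_eq_inv_val, et, et₀]
      field_simp
  have hfin : A.Finite := Set.toFinite A
  have hmul : ∀ x ∈ A, ∀ y ∈ A, x * y ∈ A := by
    by_cases h2 : (2 : F) = 0
    · intro x hx y hy
      have hmap : Set.MapsTo (fun z => z * z) A A := fun z hz => by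
        simpa using hsqA z hz 1 hone
      have hinj : Set.InjOn (fun z : F => z * z) A := fun z _ w _ e => by
        rcases mul_self_eq_mul_self_iff.1 e with e | e
        · exact e
        · linear_combination e - w * h2
      obtain ⟨z, hz, rfl⟩ := ((hfin.injOn_iff_bijOn_of_mapsTo hmap).1 hinj).surjOn hx
      exact hsqA z hz y hy
    · intro x hx y hy
      have hmap : Set.MapsTo (fun z => z + z) A A := fun z hz => by
        show (z + z) * a ∈ upSet H
        rw [add_mul]; exact add_mem hz hz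
      have hinj : Set.InjOn (fun z : F => z + z) A := fun z _ w _ e =>
        mul_left_cancel₀ h2 (by linear_combination e)
      have h1 : (x * y + x * y) ∈ A := by
        have hs : (x + y) ∈ A := by show (x + y) * a ∈ upSet H; rw [add_mul]; exact add_mem hx hy
        have e1 : (x + y) * (x + y) * 1 * a ∈ upSet H := hsqA _ hs 1 hone
        have e2 : x * x * 1 * a ∈ upSet H := hsqA _ hx 1 hone
        have e3 : y * y * 1 * a ∈ upSet H := hsqA _ hy 1 hone
        show (x * y + x * y) * a ∈ upSet H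
        have := sub_mem (sub_mem e1 e2) e3
        convert this using 1
        ring
      obtain ⟨z, hz, ez⟩ := ((hfin.injOn_iff_bijOn_of_mapsTo hmap).1 hinj).surjOn h1
      have : z = x * y := mul_left_cancel₀ h2 (by linear_combination ez)
      exact this ▸ hz
  let R : Subring F :=
    { carrier := A
      one_mem' := hone
      mul_mem' := fun {x y} hx hy => hmul x hx y hy
      zero_mem' := by simp [A]
      add_mem' := fun {x y} hx hy => by
        show (x + y) * a ∈ upSet H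
        rw [add_mul]; exact add_mem hx hy
      neg_mem' := fun {x} hx => by
        show -x * a ∈ upSet H
        rw [neg_mul]; exact neg_mem hx }
  let K : Subfield F :=
    { R with
      inv_mem' := fun x hx => by
        by_cases hx0 : x = 0
        · show x⁻¹ ∈ R
          rw [hx0, _root_.inv_zero]; exact R.zero_mem
        · show x⁻¹ ∈ R
          have e : x⁻¹ = x ^ (Fintype.card F - 2) := by
            refine (eq_inv_of_mul_eq_one_left ?_).symm
            rw [← pow_succ, show Fintype.card F - 2 + 1 = Fintype.card F - 1 by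
              have : 2 ≤ Fintype.card F := Fintype.one_lt_card
              omega, FiniteField.pow_card_sub_one_eq_one x hx0]
          rw [e]
          exact pow_mem hx _ }
  have hK : ∀ x : F, x ∈ K ↔ x * a ∈ upSet H := fun x => Iff.rfl
  refine ⟨K, Units.mk0 a ha0, ?_, hK, ?_, ?_⟩
  · rw [← hcard]
    exact Nat.card_congr
      { toFun := fun x => ⟨x.1 * a, (hK _).1 x.2⟩
        invFun := fun y => ⟨y.1 / a, (hK _).2 (by rw [div_mul_cancel₀ _ ha0]; exact y.2)⟩
        left_inv := fun x => Subtype.ext (by simp [ha0])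
        right_inv := fun y => Subtype.ext (by simp [ha0]) }
  · rw [Units.val_mk0, hK, ← et₀]
    exact h.mul_mem_upSet ht₀ ha
  · intro t ht
    rw [hK]
    exact h.mul_mem_upSet ht ha

/-- The embedding of `PSL₂(K)` into a subgroup in normal form. -/
lemma Std.psl_le (h : Std H r k s c) {K : Subfield F} {a : Fˣ}
    (hK : ∀ x : F, x ∈ K ↔ x * a ∈ upSet H) (hca : ((c : F) ^ 2 * (a : F) ^ 2) ∈ K) :
    ((conjDP a).comp (pslMap K.subtype)).range ≤ H := by
  refine psl_range_le _ (fun x => ?_) (fun x => ?_)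
  · rw [MonoidHom.comp_apply, pslMap_π, conjDP_π]
    have e : conjD a (SpecialLinearGroup.map K.subtype (up x)) = up ((x : F) * a) := by
      apply sl2_ext <;> simp [conjD, up, mul_comm]
    rw [e]
    exact (hK _).1 x.2
  · rw [MonoidHom.comp_apply, pslMap_π, conjDP_π]
    set b : F := -((x : F) / ((c : F) ^ 2 * (a : F) ^ 2)) * a
    have hb : b ∈ upSet H := (hK _).1 (neg_mem (div_mem x.2 hca))
    have e : conjD a (SpecialLinearGroup.map K.subtype (lo x)) = lo (-((c : F) ^ 2 * b)) := by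
      apply sl2_ext <;> simp [conjD, lo, b]
      field_simp
    rw [e]
    exact h.lower hb

end std

lemma tr_sq_eq_of_π_eq {g h : SL(2, F)} (e : π g = π h) : tr g ^ 2 = tr h ^ 2 := by
  rcases π_eq_iff.1 e with rfl | rfl
  · rfl
  · rw [tr_neg, neg_sq]

/-- A subgroup of subfield type is `PSL₂(K)` or `PGL₂(K)`. -/
theorem gen_structure {H : Subgroup PSL(2, F)} {r k : ℕ} (hG : Gen H r k) :
    ∃ K : Subfield F, Nat.card K = r ∧
      (∀ g : SL(2, F), π g ∈ H → tr g ^ 2 ∈ K) ∧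
      ((2 * k + 1 = r ∧ Nonempty (H ≃* PSL(2, K))) ∨
       (k + 1 = r ∧ Nonempty (H ≃* PGL(2, K)) ∧ ∀ x : K, IsSquare (x : F))) := by
  classical
  obtain ⟨d, s, c, h⟩ := gen_std hG
  obtain ⟨hU, hr, -, hk1, hkr, -, -, -⟩ := hG
  have hr1 : 1 < r := by omega
  obtain ⟨K, a, hKr, hK, hca, hT⟩ := h.field hr1
  let e₀ : H ≃* cj d H :=
    Subgroup.equivMapOfInjective H (MulAut.conj d).toMonoidHom (MulEquiv.injective _)
  obtain ⟨dd, rfl⟩ := π_surjective d
  have hconj : ∀ g : SL(2, F), π g ∈ H → π (dd * g * dd⁻¹) ∈ cj (π dd) H := fun g hg => by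
    rw [map_mul, map_mul, map_inv]
    exact Subgroup.mem_map_of_mem (MulAut.conj (π dd)).toMonoidHom hg
  have := Fintype.ofFinite K
  have hKcard : Fintype.card K = r := by rw [← hKr, Nat.card_eq_fintype_card]
  rcases hkr with hk | hk
  · set θ := (conjDP a).comp (pslMap K.subtype)
    have hθ : Function.Injective θ := (conjDP_injective a).comp (pslMap_injective _)
    have hpsl := card_psl2_mul (F := K) hKcard
    have hsq : r ^ 2 - 1 = (r + 1) * (r - 1) := by rw [← Nat.sq_sub_sq, one_pow]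
    have hg2 : Nat.gcd 2 (r - 1) = 2 := Nat.gcd_eq_left ⟨k, by omega⟩
    rw [hg2, hsq, show r - 1 = 2 * k by omega,
      show r * ((r + 1) * (2 * k)) = ((r + 1) * (r * k)) * 2 by ring] at hpsl
    have hrange : θ.range = cj (π dd) H := Subgroup.eq_of_le_of_card_ge (h.psl_le hK hca) (by
      rw [h.hcard, Nat.card_congr (MonoidHom.ofInjective hθ).symm.toEquiv,
        Nat.eq_of_mul_eq_mul_right two_pos hpsl])
    refine ⟨K, hKr, fun g hg => ?_, Or.inl ⟨hk, ⟨(e₀.trans (MulEquiv.subgroupCongr hrange.symm)).trans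
      (MonoidHom.ofInjective hθ).symm⟩⟩⟩
    obtain ⟨x, hx⟩ := hrange ▸ hconj g hg
    obtain ⟨z, rfl⟩ := π_surjective x
    have := tr_sq_eq_of_π_eq (g := conjD a (SpecialLinearGroup.map K.subtype z)) hx
    rw [tr_conj] at this
    rw [← this]
    refine pow_mem ?_ 2
    simp [tr, conjD_00, conjD_11]
    exact add_mem (z 0 0).2 (z 1 1).2
  · have hTeq : ∀ x : K, x ≠ 0 → ∃ t ∈ Subgroup.zpowers (s ^ 2), ((t : Fˣ) : F) = x := by
      have hinj : Function.Injective (fun t : Subgroup.zpowers (s ^ 2) =>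
          (⟨⟨((t : Fˣ) : F), hT _ t.2⟩, fun e => (t : Fˣ).ne_zero (congrArg Subtype.val e)⟩ :
            {x : K // x ≠ 0})) := fun t u e =>
        Subtype.ext (Units.ext (congrArg (fun z : {x : K // x ≠ 0} => ((z : K) : F)) e))
      have hb := hinj.bijective_of_nat_card_le (by
        rw [Nat.card_zpowers, ← orderOf_π_diagSL, h.hso, Nat.card_eq_fintype_card,
          Fintype.card_subtype_compl, Fintype.card_subtype_eq, hKcard]
        omega)
      intro x hx
      obtain ⟨t, ht⟩ := hb.2 ⟨x, hx⟩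
      exact ⟨t, t.2, congrArg (fun z : {x : K // x ≠ 0} => ((z : K) : F)) ht⟩
    have hsqK : ∀ x : K, IsSquare (K.subtype x) := by
      intro x
      by_cases hx : x = 0
      · simp [hx]
      · obtain ⟨t, ⟨i, hi⟩, et⟩ := hTeq x hx
        refine ⟨((s ^ i : Fˣ) : F), ?_⟩
        rw [Subfield.subtype_apply, ← et, ← Units.val_mul, ← mul_zpow, ← sq]
        exact congrArg Units.val hi.symm
    set θ := (conjDP a).comp (pglMap K.subtype hsqK)
    have hθ : Function.Injective θ := (conjDP_injective a).comp (pglMap_injective _ _)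
    have hle : θ.range ≤ cj (π dd) H := by
      rw [MonoidHom.range_eq_map, ← Subgroup.map_map, ← MonoidHom.range_eq_map]
      refine Subgroup.map_le_iff_le_comap.2 (pgl_range_le _ _ ?_ ?_)
      · rintro _ ⟨x, rfl⟩
        exact h.psl_le hK hca ⟨x, rfl⟩
      · intro u ρ hρ hρ0
        rw [Subgroup.mem_comap, conjDP_π]
        have e : conjD a (diagSL (Units.mk0 ρ hρ0)) = diagSL (Units.mk0 ρ hρ0) := by
          apply sl2_ext <;> simp [conjD, diagSL]
        rw [e]
        refine h.diag_mem ?_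
        obtain ⟨t, ht, et⟩ := hTeq u u.ne_zero
        convert ht using 1
        refine Units.ext ?_
        rw [et, Units.val_pow_eq_pow_val, Units.val_mk0, sq, hρ, Subfield.subtype_apply]
    have hrange : θ.range = cj (π dd) H := Subgroup.eq_of_le_of_card_ge hle (by
      rw [h.hcard, Nat.card_congr (MonoidHom.ofInjective hθ).symm.toEquiv,
        Cfsg.Agent.H1.card_PGL, card_sl2 hKcard]
      have hsq : r ^ 2 - 1 = (r + 1) * (r - 1) := by rw [← Nat.sq_sub_sq, one_pow]
      rw [hsq, show r - 1 = k by omega]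
      exact le_of_eq (by ring))
    refine ⟨K, hKr, fun g hg => ?_, Or.inr ⟨hk, ⟨(e₀.trans (MulEquiv.subgroupCongr hrange.symm)).trans
      (MonoidHom.ofInjective hθ).symm⟩, hsqK⟩⟩
    obtain ⟨x, hx⟩ := hrange ▸ hconj g hg
    obtain ⟨m, rfl⟩ := Matrix.ProjGenLinGroup.mk_surjective x
    have := tr_sq_eq_of_π_eq (g := conjD a (scaleSL K.subtype hsqK m)) hx
    rw [tr_conj] at this
    rw [← this]
    simp only [tr, conjD_00, conjD_11, scaleSL_apply, ← add_div, div_pow]
    rw [sq (scaleRoot _ _ _), scaleRoot_mul_self]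
    refine div_mem (pow_mem ?_ 2) (SetLike.coe_mem _)
    exact add_mem (SetLike.coe_mem _) (SetLike.coe_mem _)

end Cfsg.Agent.H6
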