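import Cfsg.Agent.H6.Partition
import Cfsg.Agent.H6.Four

/-!
# The two kinds of orbits in the partition of a subgroup of `PSL₂(q)`
-/

set_option autoImplicit false

open Matrix MatrixGroups

namespace Cfsg.Agent.H6

variable {F : Type*} [Field F] [Fintype F]

/-- A semisimple torus of `PSL₂`. -/
def IsTor (M : Subgroup PSL(2, F)) : Prop := ∃ g : SL(2, F), tr g ^ 2 ≠ 4 ∧ M = tor g

/-- A conjugate of the standard unipotent subgroup. -/
def IsUni (M : Subgroup PSL(2, F)) : Prop := ∃ c : PSL(2, F), cj c M = Uinf F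

lemma isTor_or_isUni {H M : Subgroup PSL(2, F)} (hM : M ∈ cls H) : IsTor M ∨ IsUni M := by
  obtain ⟨x, -, hx1, rfl⟩ := mem_cls.1 hM
  by_cases hs : IsSS x
  · obtain ⟨g, rfl, ht⟩ := hs
    exact Or.inl ⟨g, ht, mx_π g⟩
  · exact Or.inr (exists_conj_Uinf hx1 hs)

lemma not_isSS_up (a : F) : ¬ IsSS (π (up a)) := by
  rw [isSS_π, tr_up]
  norm_num

lemma isSS_of_mem_isTor {M : Subgroup PSL(2, F)} (hM : IsTor M) {x : PSL(2, F)} (hx : x ∈ M)
    (hx1 : x ≠ 1) : IsSS x := by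
  obtain ⟨g, ht, rfl⟩ := hM
  exact isSS_of_mem_mx (x := π g) (isSS_π.2 ht) (by rwa [mx_π]) hx1

lemma isSS_conj {c x : PSL(2, F)} (h : IsSS x) : IsSS (c * x * c⁻¹) := by
  obtain ⟨g, rfl, ht⟩ := h
  obtain ⟨d, rfl⟩ := π_surjective c
  rw [← map_inv, ← map_mul, ← map_mul, isSS_π, tr_conj]
  exact ht

lemma not_isSS_of_mem_isUni {M : Subgroup PSL(2, F)} (hM : IsUni M) {x : PSL(2, F)}
    (hx : x ∈ M) : ¬ IsSS x := by
  obtain ⟨c, hc⟩ := hM
  intro h
  have hcx : c * x * c⁻¹ ∈ Uinf F := hc ▸ Subgroup.mem_map_of_mem _ hx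
  obtain ⟨a, ha⟩ := mem_Uinf.1 hcx
  exact not_isSS_up a (ha ▸ isSS_conj h)

lemma not_isTor_of_isUni {M : Subgroup PSL(2, F)} (hM : IsUni M) (hT : IsTor M) : False := by
  obtain ⟨g, ht, rfl⟩ := hT
  exact not_isSS_of_mem_isUni hM (self_mem_tor g) (isSS_π.2 ht)

lemma isTor_cj {M : Subgroup PSL(2, F)} (hM : IsTor M) (c : PSL(2, F)) : IsTor (cj c M) := by
  obtain ⟨g, ht, rfl⟩ := hM
  obtain ⟨d, rfl⟩ := π_surjective c
  exact ⟨d * g * d⁻¹, by rwa [tr_conj], map_conj_tor d g⟩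

lemma isUni_Uinf : IsUni (Uinf F) := ⟨1, cj_one _⟩

/-- The normaliser of a semisimple torus is its dihedral normaliser. -/
lemma normalizer_tor {g : SL(2, F)} (ht : tr g ^ 2 ≠ 4) :
    Subgroup.normalizer (tor g : Set PSL(2, F)) = torDih g := by
  ext x
  obtain ⟨h, rfl⟩ := π_surjective x
  rw [torDih, mem_map_π (center_le_torNorm g), mem_torNorm ht]
  constructor
  · intro hn
    have := (Subgroup.mem_normalizer_iff.1 hn (π g)).1 (self_mem_tor g)
    rw [← map_inv, ← map_mul, ← map_mul, mem_tor] at this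
    exact conj_eq_or_eq_inv ht (not_isScal_of_ss ht) this
  · intro hh
    have hn := (mem_torNorm ht).2 hh
    refine Subgroup.mem_normalizer_iff.2 fun z => ?_
    obtain ⟨k, rfl⟩ := π_surjective z
    rw [← map_inv, ← map_mul, ← map_mul, mem_tor, mem_tor]
    exact Subgroup.mem_normalizer_iff.1 hn k

/-- For a torus, `N_H(M)` is `M ∩ H` or twice as large. -/
lemma nH_tor {H M : Subgroup PSL(2, F)} (hM : IsTor M) :
    nH H M = mH H M ∨ nH H M = 2 * mH H M := by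
  obtain ⟨g, ht, rfl⟩ := hM
  rw [nH, mH, normalizer_tor ht, inf_comm (tor g)]
  have hle : H ⊓ tor g ≤ H ⊓ torDih g := inf_le_inf_left H (tor_le_torDih g)
  by_cases hall : H ⊓ torDih g ≤ H ⊓ tor g
  · left
    rw [le_antisymm hall hle]
  · right
    obtain ⟨w, hw, hw'⟩ := SetLike.not_le_iff_exists.1 hall
    have hwt : w ∉ tor g := fun h => hw' ⟨hw.1, h⟩
    have hidx : ((H ⊓ tor g).subgroupOf (H ⊓ torDih g)).index = 2 := by
      rw [Subgroup.index_eq_two_iff]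
      refine ⟨⟨w, hw⟩, fun b => ?_⟩
      simp only [Subgroup.mem_subgroupOf, Subgroup.coe_mul, Subgroup.mem_inf]
      by_cases hb : (b : PSL(2, F)) ∈ tor g
      · exact Or.inr ⟨⟨b.2.1, hb⟩, fun h => hwt ((Subgroup.mul_mem_cancel_left _ hb).1 h.2)⟩
      · exact Or.inl ⟨⟨mul_mem b.2.1 hw.1, mul_mem_tor ht b.2.2 hb hw.2 hwt⟩, fun h => hb h.2⟩
    have h := ((H ⊓ tor g).subgroupOf (H ⊓ torDih g)).card_mul_index
    rw [hidx, Nat.card_congr (Subgroup.subgroupOfEquivOfLe hle).toEquiv] at h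
    rw [← h, mul_comm]

/-- A subgroup with `N_H(M) = H` for a torus `M` lies in the dihedral normaliser. -/
lemma le_torDih_of_nH {H M : Subgroup PSL(2, F)} (hM : IsTor M) (h : nH H M = Nat.card H) :
    ∃ g : SL(2, F), tr g ^ 2 ≠ 4 ∧ M = tor g ∧ H ≤ torDih g := by
  obtain ⟨g, ht, rfl⟩ := hM
  refine ⟨g, ht, rfl, ?_⟩
  rw [← normalizer_tor ht]
  have := Subgroup.eq_of_le_of_card_ge
    (inf_le_left : H ⊓ Subgroup.normalizer (tor g : Set PSL(2, F)) ≤ H) h.ge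
  exact inf_eq_left.1 this

variable (p : ℕ) [Fact p.Prime] [CharP F p]

lemma not_dvd_mH_tor {H M : Subgroup PSL(2, F)} (hM : IsTor M) : ¬ p ∣ mH H M := by
  obtain ⟨g, ht, rfl⟩ := hM
  intro h
  refine not_dvd_card_mx p (isSS_π.2 ht) (h.trans ?_)
  rw [mx_π]
  exact Subgroup.card_dvd_of_le inf_le_left

/-- Elements of a unipotent subgroup are self-centralising in `PSL₂`. -/
lemma mem_of_commute_isUni {M : Subgroup PSL(2, F)} (hM : IsUni M) {x z : PSL(2, F)} (hx : x ∈ M)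
    (hx1 : x ≠ 1) (hc : z * x = x * z) : z ∈ M := by
  obtain ⟨c, hcM⟩ := hM
  suffices c * z * c⁻¹ ∈ Uinf F by
    rw [← hcM, mem_cj] at this
    simpa [mul_assoc] using this
  obtain ⟨a, ha⟩ := mem_Uinf.1 (hcM ▸ Subgroup.mem_map_of_mem _ hx : c * x * c⁻¹ ∈ Uinf F)
  have ha0 : a ≠ 0 := fun e => hx1 (by
    rw [e, up_zero, map_one] at ha
    simpa [mul_assoc] using congrArg (fun w => c⁻¹ * w * c) ha.symm)
  obtain ⟨h, hh⟩ := π_surjective (c * z * c⁻¹)
  rw [← hh, ← tor_up ha0, mem_tor, mem_cent]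
  have hcomm : π (h * up a * h⁻¹) = π (up a) := by
    rw [map_mul, map_mul, map_inv, hh, ha]
    calc c * z * c⁻¹ * (c * x * c⁻¹) * (c * z * c⁻¹)⁻¹ = c * (z * x * z⁻¹) * c⁻¹ := by group
      _ = c * x * c⁻¹ := by rw [hc, mul_inv_cancel_right]
  rcases π_eq_iff.1 hcomm with e | e
  · rw [mul_inv_eq_iff_eq_mul] at e
    exact e.symm
  · have h2 : tr (h * up a * h⁻¹) = tr (-up a) := by rw [e]
    rw [tr_conj, tr_neg, tr_up] at h2
    have h20 : (2 : F) = 0 :=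
      mul_self_eq_zero.1 (show (2 : F) * 2 = 0 by linear_combination h2)
    have h0 : (up a : SL(2, F)) = -up a := by
      apply sl2_ext <;> simp [up, sl2_neg] <;> grind
    rw [← h0, mul_inv_eq_iff_eq_mul] at e
    exact e.symm

/-- A unipotent `M ∩ H` is a Sylow `p`-subgroup of `H`. -/
lemma exists_sylow_of_isUni {H M : Subgroup PSL(2, F)} (hMc : M ∈ cls H) (hM : IsUni M) :
    ∃ S : Sylow p H, (S : Subgroup H) = M.subgroupOf H := by
  obtain ⟨x, hxH, hx1, rfl⟩ := mem_cls.1 hMc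
  have hp : IsPGroup p ((mx x).subgroupOf H) := by
    intro y
    refine ⟨1, Subtype.ext ?_⟩
    rw [pow_one]
    have hy : ((y : H) : PSL(2, F)) ∈ mx x := y.2
    apply Subtype.ext
    show ((y : H) : PSL(2, F)) ^ p = 1
    by_cases hy1 : ((y : H) : PSL(2, F)) = 1
    · rw [hy1, one_pow]
    · rw [← orderOf_eq_of_not_isSS p hy1 (not_isSS_of_mem_isUni hM hy), pow_orderOf_eq_one]
  obtain ⟨S, hS⟩ := hp.exists_le_sylow
  refine ⟨S, le_antisymm (fun w hw => ?_) hS⟩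
  have hxS : (⟨x, hxH⟩ : H) ∈ (S : Subgroup H) := hS (self_mem_mx x)
  have : Nontrivial (S : Subgroup H) :=
    ⟨⟨_, hxS⟩, 1, fun e => hx1 (congrArg (fun z : (S : Subgroup H) => ((z : H) : PSL(2, F))) e)⟩
  have := S.2.center_nontrivial
  obtain ⟨z, hz⟩ := exists_ne (1 : Subgroup.center (S : Subgroup H))
  have hcomm : ∀ v : (S : Subgroup H), (((z : (S : Subgroup H)) : H) : PSL(2, F)) * ((v : H) : PSL(2, F))
      = ((v : H) : PSL(2, F)) * (((z : (S : Subgroup H)) : H) : PSL(2, F)) := fun v =>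
    congrArg (fun w : (S : Subgroup H) => ((w : H) : PSL(2, F)))
      (Subgroup.mem_center_iff.1 z.2 v).symm
  have hzM := mem_of_commute_isUni hM (self_mem_mx x) hx1 (hcomm ⟨_, hxS⟩)
  exact mem_of_commute_isUni hM hzM
    (fun e => hz (Subtype.ext (Subtype.ext (Subtype.ext e)))) (hcomm ⟨w, hw⟩).symm

include p in
/-- The unipotent subgroups met by `H` form one orbit. -/
lemma orb_eq_of_isUni {H M₁ M₂ : Subgroup PSL(2, F)} (h₁ : M₁ ∈ cls H) (h₂ : M₂ ∈ cls H)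
    (u₁ : IsUni M₁) (u₂ : IsUni M₂) : orb H M₁ = orb H M₂ := by
  obtain ⟨S₁, e₁⟩ := exists_sylow_of_isUni p h₁ u₁
  obtain ⟨S₂, e₂⟩ := exists_sylow_of_isUni p h₂ u₂
  obtain ⟨c, hc⟩ := MulAction.exists_smul_eq H S₁ S₂
  obtain ⟨x, hxH, hx1, rfl⟩ := mem_cls.1 h₁
  have hm : (MulAut.conj c).toMonoidHom ⟨x, hxH⟩ ∈ (S₂ : Subgroup H) := by
    rw [← hc]
    exact Subgroup.mem_map_of_mem _ (e₁ ▸ self_mem_mx x : (⟨x, hxH⟩ : H) ∈ (S₁ : Subgroup H))
  rw [e₂, Subgroup.mem_subgroupOf] at hm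
  have hm' : (c : PSL(2, F)) * x * (c : PSL(2, F))⁻¹ ∈ M₂ := hm
  refine (orb_eq_of_mem (mem_orb.2 ⟨c, c.2, ?_⟩)).symm
  show Subgroup.map _ (mx x) = M₂
  rw [← mx_conj]
  exact mx_eq_of_mem_cls h₂ hm' fun e => hx1 (by
    simpa [mul_assoc] using congrArg (fun w => (c : PSL(2, F))⁻¹ * w * c) e)

omit [Fintype F] in
/-- The character of the Borel subgroup of `PSL₂` factors through the centre. -/
lemma ker_π_le_ker_chiSL :
    ((π : SL(2, F) →* PSL(2, F)).subgroupMap (upperSL F)).ker ≤ (chiSL (F := F)).ker := by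
  intro g hg
  have h : π (g : SL(2, F)) = 1 := congrArg Subtype.val (MonoidHom.mem_ker.1 hg)
  rw [MonoidHom.mem_ker]
  ext
  rw [chiSL_val]
  rcases π_eq_one_iff.1 h with e | e <;> rw [e] <;> simp [sl2_neg]

/-- The squared diagonal entry on the Borel subgroup of `PSL₂`. -/
noncomputable def chiB : borel F →* Fˣ :=
  MonoidHom.liftOfSurjective ((π : SL(2, F) →* PSL(2, F)).subgroupMap (upperSL F))
    ((π : SL(2, F) →* PSL(2, F)).subgroupMap_surjective (upperSL F))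
    ⟨chiSL, ker_π_le_ker_chiSL⟩

omit [Fintype F] in
lemma chiB_π (g : upperSL F) :
    chiB ⟨π (g : SL(2, F)), Subgroup.mem_map_of_mem _ g.2⟩ = chiSL g :=
  MonoidHom.liftOfRightInverse_comp_apply _ _ _ ⟨chiSL, ker_π_le_ker_chiSL⟩ g

omit [Fintype F] in
lemma chiB_eq_one_iff (x : borel F) : chiB x = 1 ↔ (x : PSL(2, F)) ∈ Uinf F := by
  obtain ⟨_, g, hg, rfl⟩ := x
  rw [chiB_π ⟨g, hg⟩, Units.ext_iff, chiSL_val, Units.val_one]
  constructor
  · exact fun h => π_eq_up_of_chi hg h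
  · intro h
    obtain ⟨a, ha⟩ := mem_Uinf.1 h
    have : (g 0 0) ^ 2 = 1 := by
      rcases π_eq_iff.1 ha.symm with e | e <;> rw [e] <;> simp [up, sl2_neg]
    exact this

lemma isSS_of_chiB {x : borel F} (h : chiB x ≠ 1) : IsSS (x : PSL(2, F)) := by
  obtain ⟨_, g, hg, rfl⟩ := x
  rw [chiB_π ⟨g, hg⟩, Ne, Units.ext_iff, chiSL_val, Units.val_one] at h
  rw [isSS_π]
  intro ht
  apply h
  have hg' : g 1 0 = 0 := hg
  have d := sl2_det g
  rw [hg', mul_zero, sub_zero] at d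
  simp only [tr] at ht
  have : (g 0 0 ^ 2 - 1) ^ 2 = 0 := by grind
  exact sub_eq_zero.1 (pow_eq_zero_iff two_ne_zero |>.1 this)

/-- Structure of `H ∩ B` when `H` meets `Uinf`. -/
lemma borel_structure {H : Subgroup PSL(2, F)} (hU : Uinf F ∈ cls H) :
    ∃ k : ℕ, nH H (Uinf F) = mH H (Uinf F) * k ∧ k ∣ mH H (Uinf F) - 1 ∧ 0 < k ∧
      (k ≠ 1 → ∃ y ∈ H, y ∈ borel F ∧ IsSS y ∧ orderOf y = k ∧ mx y ≤ borel F ∧
        mH H (mx y) = k) := by
  classical
  set K := H ⊓ borel F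
  let f : K →* Fˣ := chiB.comp (Subgroup.inclusion (inf_le_right : K ≤ borel F))
  have hfval : ∀ x : K, f x = chiB ⟨x.1, x.2.2⟩ := fun x => rfl
  set k := Nat.card f.range
  have hker : f.ker = (Uinf F ⊓ H).subgroupOf K := by
    ext x
    rw [MonoidHom.mem_ker, hfval, chiB_eq_one_iff, Subgroup.mem_subgroupOf]
    exact ⟨fun h => ⟨h, x.2.1⟩, fun h => h.1⟩
  have hle : Uinf F ⊓ H ≤ K := fun x hx => ⟨hx.2, Uinf_le_borel hx.1⟩
  have hnH : nH H (Uinf F) = Nat.card K := by rw [nH, normalizer_Uinf]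
  have hcard : nH H (Uinf F) = mH H (Uinf F) * k := by
    have h := f.ker.card_mul_index
    rw [Subgroup.index_ker, hker, Nat.card_congr (Subgroup.subgroupOfEquivOfLe hle).toEquiv] at h
    rw [hnH, mH, h]
  refine ⟨k, hcard, ?_, Nat.card_pos, ?_⟩
  · -- `k` divides `r - 1`: the units in the additive group of `H ∩ Uinf` form cosets of the range
    let A : Set F := {a | π (up a) ∈ H}
    let S : Set Fˣ := {u | π (up (u : F)) ∈ H}
    have hAcard : Nat.card A = mH H (Uinf F) := by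
      refine Nat.card_congr (Equiv.ofBijective
        (fun a => ⟨π (up a.1), ⟨mem_Uinf.2 ⟨a.1, rfl⟩, a.2⟩⟩) ⟨fun a b e =>
          Subtype.ext (π_up_eq_iff.1 (congrArg Subtype.val e)), ?_⟩)
      rintro ⟨x, hx1, hx2⟩
      obtain ⟨a, rfl⟩ := mem_Uinf.1 hx1
      exact ⟨⟨a, hx2⟩, rfl⟩
    have h0 : (0 : F) ∈ A := by simp [A, up_zero]
    have hScard : Nat.card S = mH H (Uinf F) - 1 := by
      rw [← hAcard, Nat.card_coe_set_eq A, ← Set.ncard_sdiff_singleton_of_mem h0,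
        ← Nat.card_coe_set_eq]
      exact Nat.card_congr
        { toFun := fun u => ⟨(u.1 : F), u.2, u.1.ne_zero⟩
          invFun := fun a => ⟨Units.mk0 a.1 a.2.2, a.2.1⟩
          left_inv := fun u => Subtype.ext (Units.ext rfl)
          right_inv := fun a => rfl }
    have hmul : ∀ v ∈ f.range, ∀ u ∈ S, v * u ∈ S := by
      rintro _ ⟨⟨x, hxH, g, hg, rfl⟩, rfl⟩ u hu
      rw [hfval, chiB_π ⟨g, hg⟩]
      have hg' : g 1 0 = 0 := hg
      have d := sl2_det g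
      rw [hg', mul_zero, sub_zero] at d
      show π (up ((chiSL ⟨g, hg⟩ : F) * (u : F))) ∈ H
      have e : g * up (u : F) * g⁻¹ = up ((g 0 0) ^ 2 * (u : F)) := by
        apply sl2_ext <;>
          simp [up, sl2_mul, sl2_inv_00, sl2_inv_01, sl2_inv_10, sl2_inv_11, hg'] <;> grind
      rw [chiSL_val, ← e, map_mul, map_mul, map_inv]
      exact mul_mem (mul_mem hxH hu) (inv_mem hxH)
    rw [← hScard]
    have hpre : S = QuotientGroup.mk ⁻¹' ((QuotientGroup.mk '' S : Set (Fˣ ⧸ f.range))) := by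
      refine le_antisymm (Set.subset_preimage_image _ _) ?_
      rintro v ⟨u, hu, e⟩
      have hm : u⁻¹ * v ∈ f.range := QuotientGroup.eq.1 e
      have := hmul _ hm u hu
      rwa [mul_comm _ u, mul_inv_cancel_left] at this
    rw [hpre, Nat.card_congr (QuotientGroup.preimageMkEquivSubgroupProdSet _ _), Nat.card_prod]
    exact Dvd.intro _ rfl
  · intro hk
    obtain ⟨u, hu⟩ := IsCyclic.exists_ofOrder_eq_natCard (α := f.range)
    obtain ⟨y, hy⟩ := u.2
    have hfy : orderOf (f y) = k := by rw [hy, Subgroup.orderOf_coe, hu]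
    have hss : IsSS (y : PSL(2, F)) := isSS_of_chiB (x := ⟨y.1, y.2.2⟩) fun e => hk (by
      rw [← hfval] at e
      rw [← hfy, e, orderOf_one])
    have hsub : mx (y : PSL(2, F)) ≤ borel F := by
      obtain ⟨hyH, g, hg, hgy⟩ := y.2
      rw [← hgy, mx_π]
      rintro _ ⟨h, hh, rfl⟩
      obtain ⟨s, r, e⟩ := exists_of_mem_cent (not_isScal_of_ss
        (isSS_π.1 (hgy.symm ▸ hss))) hh
      refine mem_borel.2 ?_
      rw [e, show g 1 0 = 0 from hg]
      simp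
    have hinj : ∀ z : K, (z : PSL(2, F)) ∈ mx (y : PSL(2, F)) → f z = 1 → z = 1 := by
      intro z hz hfz
      rw [hfval, chiB_eq_one_iff] at hfz
      by_contra hz1
      exact not_isSS_of_mem_isUni isUni_Uinf hfz
        (isSS_of_mem_mx hss hz fun e => hz1 (Subtype.ext e))
    have hord : orderOf (y : PSL(2, F)) = k := by
      rw [Subgroup.orderOf_coe, ← hfy]
      refine Nat.dvd_antisymm (orderOf_dvd_of_pow_eq_one (hinj _ ?_ ?_)) (orderOf_map_dvd f y)
      · exact Subgroup.pow_mem _ (self_mem_mx _) _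
      · rw [map_pow, pow_orderOf_eq_one]
    refine ⟨y, y.2.1, y.2.2, hss, hord, hsub, le_antisymm ?_ ?_⟩
    · let j : (mx (y : PSL(2, F)) ⊓ H : Subgroup PSL(2, F)) →* f.range :=
        f.rangeRestrict.comp (Subgroup.inclusion fun z hz => ⟨hz.2, hsub hz.1⟩)
      refine Nat.card_le_card_of_injective j ((injective_iff_map_eq_one j).2 fun z hz => ?_)
      have := hinj ⟨z.1, z.2.2, hsub z.2.1⟩ z.2.1 (congrArg Subtype.val hz)
      exact Subtype.ext (congrArg Subtype.val this :)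
    · refine le_trans (le_of_eq hord.symm) (Nat.le_of_dvd Nat.card_pos ?_)
      exact Subgroup.orderOf_dvd_natCard _ ⟨self_mem_mx _, y.2.1⟩

end Cfsg.Agent.H6
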