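import Cfsg.Agent.H6.Borel

/-!
# The partition of a subgroup of `PSL₂(q)` by tori and unipotent groups
-/

set_option autoImplicit false

open Matrix MatrixGroups

namespace Cfsg.Agent.H6

variable {F : Type*} [Field F] [Fintype F]

/-- Conjugation of subgroups. -/
abbrev cj {G : Type*} [Group G] (c : G) (M : Subgroup G) : Subgroup G :=
  M.map (MulAut.conj c).toMonoidHom

lemma mem_cj {G : Type*} [Group G] {c x : G} {M : Subgroup G} : x ∈ cj c M ↔ c⁻¹ * x * c ∈ M := by
  rw [cj, Subgroup.mem_map_equiv]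
  simp [mul_assoc]

lemma cj_cj {G : Type*} [Group G] (c d : G) (M : Subgroup G) : cj c (cj d M) = cj (c * d) M := by
  ext x
  simp [mem_cj, mul_assoc]

lemma cj_one {G : Type*} [Group G] (M : Subgroup G) : cj (1 : G) M = M := by ext x; simp [mem_cj]

lemma card_cj {G : Type*} [Group G] (c : G) (M : Subgroup G) : Nat.card (cj c M) = Nat.card M :=
  Subgroup.card_map_of_injective (MulEquiv.injective _)

lemma cj_eq_iff_mem_normalizer {G : Type*} [Group G] {c : G} {M : Subgroup G} :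
    cj c M = M ↔ c ∈ Subgroup.normalizer (M : Set G) := by
  rw [Subgroup.mem_normalizer_iff, SetLike.ext_iff]
  constructor
  · intro h z
    have := h (c * z * c⁻¹)
    rw [mem_cj] at this
    simpa [mul_assoc] using this
  · intro h z
    have := h (c⁻¹ * z * c)
    simp [mul_assoc] at this
    rw [mem_cj]
    simpa [mul_assoc] using this

variable (H : Subgroup PSL(2, F))

/-- The maximal abelian subgroups of `PSL₂` met by `H`. -/
noncomputable def cls : Finset (Subgroup PSL(2, F)) :=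
  letI := Classical.decEq (Subgroup PSL(2, F))
  (Set.toFinite {x : PSL(2, F) | x ∈ H ∧ x ≠ 1}).toFinset.image mx

variable {H}

lemma mem_cls {M : Subgroup PSL(2, F)} : M ∈ cls H ↔ ∃ x ∈ H, x ≠ 1 ∧ mx x = M := by
  simp [cls, and_assoc]

lemma mx_mem_cls {x : PSL(2, F)} (hx : x ∈ H) (hx1 : x ≠ 1) : mx x ∈ cls H :=
  mem_cls.2 ⟨x, hx, hx1, rfl⟩

lemma mx_eq_of_mem_cls {M : Subgroup PSL(2, F)} (hM : M ∈ cls H) {x : PSL(2, F)} (hx : x ∈ M)
    (hx1 : x ≠ 1) : mx x = M := by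
  obtain ⟨y, -, hy1, rfl⟩ := mem_cls.1 hM
  exact mx_eq_of_mem hy1 hx hx1

/-- `|M ∩ H|`. -/
noncomputable def mH (H M : Subgroup PSL(2, F)) : ℕ := Nat.card (M ⊓ H : Subgroup PSL(2, F))

/-- `|N_H(M)|`. -/
noncomputable def nH (H M : Subgroup PSL(2, F)) : ℕ :=
  Nat.card (H ⊓ Subgroup.normalizer (M : Set PSL(2, F)) : Subgroup PSL(2, F))

lemma one_lt_mH {M : Subgroup PSL(2, F)} (hM : M ∈ cls H) : 1 < mH H M := by
  obtain ⟨y, hy, hy1, rfl⟩ := mem_cls.1 hM
  rw [mH, Subgroup.one_lt_card_iff_ne_bot]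
  intro e
  exact hy1 (Subgroup.mem_bot.1 (e ▸ ⟨self_mem_mx y, hy⟩ : y ∈ (⊥ : Subgroup PSL(2, F))))

/-- The partition identity. -/
lemma sum_cls {A : Subgroup PSL(2, F)} (hA : A ≤ H) :
    ∑ M ∈ cls H, (Nat.card (M ⊓ A : Subgroup PSL(2, F)) - 1) = Nat.card A - 1 := by
  classical
  have := Fintype.ofFinite PSL(2, F)
  let s : Finset PSL(2, F) := Finset.univ.filter (fun x => x ∈ A ∧ x ≠ 1)
  have hs : ∀ (B : Subgroup PSL(2, F)), (Finset.univ.filter (fun x => x ∈ B ∧ x ≠ 1)).card =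
      Nat.card B - 1 := by
    intro B
    rw [show (Finset.univ.filter (fun x => x ∈ B ∧ x ≠ 1)) =
      (Finset.univ.filter (fun x => x ∈ B)).erase 1 by ext; simp [and_comm],
      Finset.card_erase_of_mem (by simp), Nat.card_eq_fintype_card, Fintype.card_subtype]
  rw [← hs A, Finset.card_eq_sum_card_fiberwise (f := mx) (t := cls H)
    (fun x hx => by
      simp only [Finset.coe_filter, Set.mem_setOf_eq] at hx
      exact mx_mem_cls (hA hx.2.1) hx.2.2)]
  refine Finset.sum_congr rfl fun M hM => ?_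
  rw [← hs]
  congr 1
  ext x
  simp only [Finset.mem_filter, Finset.mem_univ, true_and, Subgroup.mem_inf]
  constructor
  · rintro ⟨⟨h1, h2⟩, h3⟩
    exact ⟨⟨h2, h3⟩, mx_eq_of_mem_cls hM h1 h3⟩
  · rintro ⟨⟨h1, h2⟩, h3⟩
    exact ⟨⟨h3 ▸ self_mem_mx x, h1⟩, h2⟩

lemma cj_mem_cls {M : Subgroup PSL(2, F)} (hM : M ∈ cls H) {c : PSL(2, F)} (hc : c ∈ H) :
    cj c M ∈ cls H := by
  obtain ⟨x, hx, hx1, rfl⟩ := mem_cls.1 hM
  refine mem_cls.2 ⟨c * x * c⁻¹, mul_mem (mul_mem hc hx) (inv_mem hc), fun e => hx1 ?_, mx_conj c x⟩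
  simpa [mul_assoc] using congrArg (fun z => c⁻¹ * z * c) e

variable (H) in
/-- The `H`-conjugates of a subgroup. -/
noncomputable def orb (M : Subgroup PSL(2, F)) : Finset (Subgroup PSL(2, F)) :=
  letI := Classical.decEq (Subgroup PSL(2, F))
  (Set.toFinite (H : Set PSL(2, F))).toFinset.image fun c => cj c M

lemma mem_orb {M M' : Subgroup PSL(2, F)} : M' ∈ orb H M ↔ ∃ c ∈ H, cj c M = M' := by
  simp [orb]

lemma self_mem_orb (M : Subgroup PSL(2, F)) : M ∈ orb H M := mem_orb.2 ⟨1, one_mem _, cj_one M⟩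

lemma orb_eq_of_mem {M M' : Subgroup PSL(2, F)} (h : M' ∈ orb H M) : orb H M' = orb H M := by
  obtain ⟨c, hc, rfl⟩ := mem_orb.1 h
  ext N
  simp only [mem_orb, cj_cj]
  constructor
  · rintro ⟨d, hd, rfl⟩
    exact ⟨d * c, mul_mem hd hc, rfl⟩
  · rintro ⟨d, hd, rfl⟩
    exact ⟨d * c⁻¹, mul_mem hd (inv_mem hc), by rw [inv_mul_cancel_right]⟩

/-- Orbit–stabiliser for conjugation by `H`. -/
lemma card_orb_mul (M : Subgroup PSL(2, F)) : (orb H M).card * nH H M = Nat.card H := by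
  classical
  let f : H → orb H M := fun h => ⟨cj h M, mem_orb.2 ⟨h, h.2, rfl⟩⟩
  have hfib : ∀ y : orb H M, Nat.card {h : H // f h = y} = nH H M := by
    rintro ⟨y, hy⟩
    obtain ⟨c, hc, rfl⟩ := mem_orb.1 hy
    refine Nat.card_congr
      { toFun := fun h => ⟨c⁻¹ * (h.1 : PSL(2, F)), H.mul_mem (H.inv_mem hc) h.1.2,
          cj_eq_iff_mem_normalizer.1 ?_⟩
        invFun := fun n => ⟨⟨c * n.1, H.mul_mem hc n.2.1⟩, Subtype.ext ?_⟩
        left_inv := fun h => by simp
        right_inv := fun n => by simp }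
    · have : cj (h.1 : PSL(2, F)) M = cj c M := congrArg Subtype.val h.2
      rw [← cj_cj, this, cj_cj, inv_mul_cancel, cj_one]
    · show cj (c * n.1) M = cj c M
      rw [← cj_cj, cj_eq_iff_mem_normalizer.2 n.2.2]
  rw [← Nat.card_congr (Equiv.sigmaFiberEquiv f), Nat.card_sigma,
    Finset.sum_congr rfl (fun y _ => hfib y), Finset.sum_const, Finset.card_univ,
    Fintype.card_coe, smul_eq_mul]

lemma mH_cj {c : PSL(2, F)} (hc : c ∈ H) (M A : Subgroup PSL(2, F)) (hA : cj c A = A) :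
    Nat.card (cj c M ⊓ A : Subgroup PSL(2, F)) = Nat.card (M ⊓ A : Subgroup PSL(2, F)) := by
  conv_lhs => rw [← hA]
  rw [← Subgroup.map_inf _ _ _ (MulEquiv.injective _)]
  exact Subgroup.card_map_of_injective (MulEquiv.injective _)

variable (H) in
/-- The orbits of `H` on `cls H`. -/
noncomputable def orbits : Finset (Finset (Subgroup PSL(2, F))) :=
  letI := Classical.decEq (Finset (Subgroup PSL(2, F)))
  (cls H).image (orb H)

lemma exists_orbit_rep {O : Finset (Subgroup PSL(2, F))} (hO : O ∈ orbits H) :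
    ∃ M ∈ cls H, O = orb H M := by
  simp [orbits] at hO
  obtain ⟨M, hM, rfl⟩ := hO
  exact ⟨M, hM, rfl⟩

/-- A representative of an orbit. -/
noncomputable def rep (O : Finset (Subgroup PSL(2, F))) : Subgroup PSL(2, F) :=
  if h : O.Nonempty then h.choose else ⊥

lemma rep_spec {O : Finset (Subgroup PSL(2, F))} (hO : O ∈ orbits H) :
    rep O ∈ cls H ∧ orb H (rep O) = O := by
  obtain ⟨M, hM, rfl⟩ := exists_orbit_rep hO
  have hne : (orb H M).Nonempty := ⟨M, self_mem_orb M⟩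
  rw [rep, dif_pos hne]
  refine ⟨?_, orb_eq_of_mem hne.choose_spec⟩
  obtain ⟨c, hc, e⟩ := mem_orb.1 hne.choose_spec
  rw [← e]
  exact cj_mem_cls hM hc

lemma orb_mem_orbits {M : Subgroup PSL(2, F)} (hM : M ∈ cls H) : orb H M ∈ orbits H := by
  simp only [orbits, Finset.mem_image]
  exact ⟨M, hM, rfl⟩

/-- The partition identity, orbit by orbit, for a subgroup normalised by `H`. -/
lemma sum_orbits {A : Subgroup PSL(2, F)} (hA : A ≤ H) (hAn : ∀ c ∈ H, cj c A = A) :
    ∑ O ∈ orbits H, O.card * (Nat.card (rep O ⊓ A : Subgroup PSL(2, F)) - 1) = Nat.card A - 1 := by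
  classical
  rw [← sum_cls hA, ← Finset.sum_fiberwise_of_maps_to (g := orb H) (t := orbits H)
    (fun M hM => orb_mem_orbits hM)]
  refine Finset.sum_congr rfl fun O hO => ?_
  obtain ⟨hr, he⟩ := rep_spec hO
  have hfib : (cls H).filter (fun M => orb H M = O) = O := by
    ext M
    simp only [Finset.mem_filter]
    constructor
    · rintro ⟨-, rfl⟩; exact self_mem_orb M
    · intro hM
      rw [← he] at hM
      obtain ⟨c, hc, e⟩ := mem_orb.1 hM
      exact ⟨e ▸ cj_mem_cls hr hc, (orb_eq_of_mem hM).trans he⟩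
  rw [hfib, ← smul_eq_mul, Finset.card_eq_sum_ones, Finset.sum_smul]
  refine Finset.sum_congr rfl fun M hM => ?_
  rw [one_smul]
  rw [← he] at hM
  obtain ⟨c, hc, rfl⟩ := mem_orb.1 hM
  rw [mH_cj hc _ _ (hAn c hc)]

/-- The class equation, rationally. -/
lemma class_equation :
    ∑ O ∈ orbits H, ((mH H (rep O) : ℚ) - 1) / nH H (rep O) = 1 - 1 / Nat.card H := by
  have h := sum_orbits (H := H) le_rfl
    (fun c hc => cj_eq_iff_mem_normalizer.2 (Subgroup.le_normalizer hc))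
  have hN : (Nat.card H : ℚ) ≠ 0 := Nat.cast_ne_zero.2 Nat.card_pos.ne'
  have h' : ∑ O ∈ orbits H, (O.card : ℚ) * ((mH H (rep O) : ℚ) - 1) = (Nat.card H : ℚ) - 1 := by
    have := congrArg (fun n : ℕ => (n : ℚ)) h
    simp only [Nat.cast_sum] at this
    rw [Nat.cast_sub Nat.card_pos, Nat.cast_one] at this
    rw [← this]
    refine Finset.sum_congr rfl fun O hO => ?_
    have := one_lt_mH (rep_spec hO).1
    rw [Nat.cast_mul, show Nat.card (rep O ⊓ H : Subgroup PSL(2, F)) = mH H (rep O) from rfl,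
      Nat.cast_sub this.le, Nat.cast_one]
  rw [one_sub_div hN, eq_div_iff hN, Finset.sum_mul, ← h']
  refine Finset.sum_congr rfl fun O hO => ?_
  have hc := card_orb_mul (H := H) (rep O)
  rw [(rep_spec hO).2] at hc
  have hn : (nH H (rep O) : ℚ) ≠ 0 := by
    refine Nat.cast_ne_zero.2 fun e => ?_
    rw [e, mul_zero] at hc
    exact Nat.card_pos.ne hc
  rw [← hc, Nat.cast_mul]
  field_simp

end Cfsg.Agent.H6
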