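import Cfsg.Agent.H6.Orbits
import Cfsg.Agent.H6.SmallOrder

/-!
# Recognising `A₄`, `S₄` and `A₅` from the partition data
-/

set_option autoImplicit false

open Matrix MatrixGroups

namespace Cfsg.Agent.H6

variable {F : Type*} [Field F] [Fintype F]

lemma le_normalizer_of_mem_cls {H M : Subgroup PSL(2, F)} :
    M ⊓ H ≤ H ⊓ Subgroup.normalizer (M : Set PSL(2, F)) :=
  fun _ hx => ⟨hx.2, Subgroup.le_normalizer hx.1⟩

/-- A member with `N_H(M) = M ∩ H`: elements of `H` normalising `M` lie in `M`. -/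
lemma mem_of_nH_eq {H M : Subgroup PSL(2, F)} (h : nH H M = mH H M) {x : PSL(2, F)} (hx : x ∈ H)
    (hxn : x ∈ Subgroup.normalizer (M : Set PSL(2, F))) : x ∈ M := by
  have e := Subgroup.eq_of_le_of_card_ge (le_normalizer_of_mem_cls (H := H) (M := M)) h.le
  exact (e ▸ ⟨hx, hxn⟩ : x ∈ M ⊓ H).1

lemma mH_of_mem_orb {H M M' : Subgroup PSL(2, F)} (h : M' ∈ orb H M) : mH H M' = mH H M := by
  obtain ⟨c, hc, rfl⟩ := mem_orb.1 h
  exact mH_cj hc _ _ (cj_eq_iff_mem_normalizer.2 (Subgroup.le_normalizer hc))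

lemma nH_of_mem_orb {H M M' : Subgroup PSL(2, F)} (h : M' ∈ orb H M) : nH H M' = nH H M := by
  have h1 := card_orb_mul (H := H) M'
  rw [orb_eq_of_mem h, ← card_orb_mul (H := H) M] at h1
  exact Nat.eq_of_mul_eq_mul_left (Finset.card_pos.2 ⟨M, self_mem_orb M⟩) h1

/-- A class member meeting `H` with a prescribed orbit size gives an embedding into a symmetric
group. -/
lemma exists_injective_perm {H M : Subgroup PSL(2, F)} (hM : M ∈ cls H) {n : ℕ} (hn : 2 ≤ n)
    (hcard : (orb H M).card = n) (hm : mH H M = 3)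
    (hn' : nH H M = 3 ∨ (IsTor M ∧ nH H M = 6)) :
    ∃ f : H →* Equiv.Perm (Fin n), Function.Injective f := by
  classical
  have hstab : ∀ h : H, ∀ N ∈ orb H M, cj (h : PSL(2, F)) N ∈ orb H M := by
    intro h N hN
    obtain ⟨c, hc, rfl⟩ := mem_orb.1 hN
    exact mem_orb.2 ⟨h.1 * c, mul_mem h.2 hc, (cj_cj _ _ _).symm⟩
  let act : H →* Equiv.Perm (orb H M) :=
    { toFun := fun h =>
        { toFun := fun N => ⟨cj (h : PSL(2, F)) N.1, hstab h N.1 N.2⟩
          invFun := fun N => ⟨cj ((h⁻¹ : H) : PSL(2, F)) N.1, hstab h⁻¹ N.1 N.2⟩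
          left_inv := fun N => Subtype.ext (by simp [cj_cj, cj_one])
          right_inv := fun N => Subtype.ext (by simp [cj_cj, cj_one]) }
      map_one' := Equiv.ext fun N => Subtype.ext (cj_one _)
      map_mul' := fun a b => Equiv.ext fun N => Subtype.ext (cj_cj _ _ _).symm }
  have hinj : Function.Injective act := by
    rw [← MonoidHom.ker_eq_bot_iff]
    have hnorm : ∀ h ∈ act.ker, ∀ N ∈ orb H M,
        (h : PSL(2, F)) ∈ Subgroup.normalizer (N : Set PSL(2, F)) := fun h hh N hN =>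
      cj_eq_iff_mem_normalizer.1
        (congrArg Subtype.val (Equiv.ext_iff.1 (MonoidHom.mem_ker.1 hh) ⟨N, hN⟩) :)
    have hcls : ∀ N ∈ orb H M, N ∈ cls H := fun N hN => by
      obtain ⟨c, hc, rfl⟩ := mem_orb.1 hN
      exact cj_mem_cls hM hc
    have hother : ∀ N ∈ orb H M, ∃ N' ∈ orb H M, N' ≠ N := fun N hN =>
      Finset.exists_mem_ne (by rw [hcard]; omega) N
    -- an element of the kernel lying in some member is trivial
    have hin : ∀ h ∈ act.ker, ∀ N ∈ orb H M, (h : PSL(2, F)) ∈ N → h = 1 := by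
      intro h hh N hN hhN
      by_contra h1
      have h1' : (h : PSL(2, F)) ≠ 1 := fun e => h1 (Subtype.ext e)
      obtain ⟨N', hN', hne⟩ := hother N hN
      have hn2 : (h : PSL(2, F)) ∉ N' := fun hh' => hne
        ((mx_eq_of_mem_cls (hcls N' hN') hh' h1').symm.trans (mx_eq_of_mem_cls (hcls N hN) hhN h1'))
      rcases hn' with e | ⟨hT, e⟩
      · exact hn2 (mem_of_nH_eq (by rw [nH_of_mem_orb hN', mH_of_mem_orb hN', e, hm]) h.2
          (hnorm h hh N' hN'))
      · obtain ⟨c, hc, rfl⟩ := mem_orb.1 hN'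
        obtain ⟨g, ht, hg⟩ := isTor_cj hT c
        have hd := hnorm h hh _ hN'
        rw [hg] at hd hn2
        rw [normalizer_tor ht] at hd
        have hsq := (outside_torDih ht hd hn2).1
        have h3 : (⟨(h : PSL(2, F)), hhN, h.2⟩ : (N ⊓ H : Subgroup PSL(2, F))) ^ 3 = 1 := by
          have := pow_card_eq_one' (x := (⟨(h : PSL(2, F)), hhN, h.2⟩ : (N ⊓ H : Subgroup PSL(2, F))))
          rwa [show Nat.card (N ⊓ H : Subgroup PSL(2, F)) = 3 from (mH_of_mem_orb hN).trans hm] at this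
        have h3' : (h : PSL(2, F)) ^ 3 = 1 := congrArg Subtype.val h3
        rw [pow_succ, sq, hsq, one_mul] at h3'
        exact h1' h3'
    rw [Subgroup.eq_bot_iff_forall]
    intro h hh
    by_contra h1
    rcases hn' with e | ⟨hT, e⟩
    · exact h1 (hin h hh M (self_mem_orb M)
        (mem_of_nH_eq (by rw [e, hm]) h.2 (hnorm h hh M (self_mem_orb M))))
    · obtain ⟨g, ht, rfl⟩ := hT
      have hd := hnorm h hh _ (self_mem_orb _)
      rw [normalizer_tor ht] at hd
      have hn2 : (h : PSL(2, F)) ∉ tor g := fun h' => h1 (hin h hh _ (self_mem_orb _) h')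
      obtain ⟨x, hxH, hx1, hxm⟩ := mem_cls.1 hM
      have hxt : x ∈ tor g := hxm ▸ self_mem_mx x
      have hinv := (outside_torDih ht hd hn2).2.2 x hxt
      -- the commutator lies in the kernel and in the torus
      have hk : h * ⟨x, hxH⟩ * h⁻¹ * (⟨x, hxH⟩ : H)⁻¹ ∈ act.ker := by
        rw [show h * ⟨x, hxH⟩ * h⁻¹ * (⟨x, hxH⟩ : H)⁻¹ =
          h * (⟨x, hxH⟩ * h⁻¹ * (⟨x, hxH⟩ : H)⁻¹) by simp [mul_assoc]]
        exact mul_mem hh ((MonoidHom.normal_ker act).conj_mem _ (inv_mem hh) _)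
      have hkt : ((h * ⟨x, hxH⟩ * h⁻¹ * (⟨x, hxH⟩ : H)⁻¹ : H) : PSL(2, F)) ∈ tor g := by
        simp only [Subgroup.coe_mul, Subgroup.coe_inv, hinv]
        exact mul_mem (inv_mem hxt) (inv_mem hxt)
      have e1 := congrArg Subtype.val (hin _ hk _ (self_mem_orb _) hkt)
      simp only [Subgroup.coe_mul, Subgroup.coe_inv, hinv, Subgroup.coe_one] at e1
      have hx2 : x * x = 1 := by
        rw [← _root_.mul_inv_rev] at e1
        exact inv_eq_one.1 e1
      have hx3 : x ^ 3 = 1 := by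
        have := pow_card_eq_one' (x := (⟨x, hxt, hxH⟩ : (tor g ⊓ H : Subgroup PSL(2, F))))
        rw [show Nat.card (tor g ⊓ H : Subgroup PSL(2, F)) = 3 from hm] at this
        exact congrArg Subtype.val this
      rw [pow_succ, sq, hx2, one_mul] at hx3
      exact hx1 hx3
  let e : orb H M ≃ Fin n := Finset.equivFinOfCardEq hcard
  exact ⟨(Equiv.permCongrHom e).toMonoidHom.comp act, (Equiv.permCongrHom e).injective.comp hinj⟩

/-- Recognition of `A₄` by an orbit of four self-normalising subgroups of order three. -/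
lemma equiv_alt_four {H M : Subgroup PSL(2, F)} (hN : Nat.card H = 12) (hM : M ∈ cls H)
    (hm : mH H M = 3) (hn : nH H M = 3) : Nonempty (H ≃* alternatingGroup (Fin 4)) := by
  have hc : (orb H M).card = 4 := by
    have := card_orb_mul (H := H) M
    rw [hn, hN] at this
    omega
  obtain ⟨f, hf⟩ := exists_injective_perm hM (by norm_num) hc hm (Or.inl hn)
  have hr : Nat.card f.range = 12 := by
    rw [← hN]; exact (Nat.card_congr (MonoidHom.ofInjective hf).toEquiv).symm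
  have hi : f.range.index = 2 := by
    have h := f.range.card_mul_index
    rw [hr, Nat.card_perm, Nat.card_eq_fintype_card, Fintype.card_fin] at h
    have h24 : Nat.factorial 4 = 24 := rfl
    omega
  exact ⟨(MonoidHom.ofInjective hf).trans
    (MulEquiv.subgroupCongr (Equiv.Perm.eq_alternatingGroup_of_index_eq_two hi))⟩

/-- Recognition of `S₄` by an orbit of four subgroups of order three. -/
lemma equiv_perm_four {H M : Subgroup PSL(2, F)} (hN : Nat.card H = 24) (hM : M ∈ cls H)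
    (hT : IsTor M) (hm : mH H M = 3) (hn : nH H M = 6) :
    Nonempty (H ≃* Equiv.Perm (Fin 4)) := by
  have hc : (orb H M).card = 4 := by
    have := card_orb_mul (H := H) M
    rw [hn, hN] at this
    omega
  obtain ⟨f, hf⟩ := exists_injective_perm hM (by norm_num) hc hm (Or.inr ⟨hT, hn⟩)
  exact ⟨MulEquiv.ofBijective f ((Nat.bijective_iff_injective_and_card f).2
    ⟨hf, by rw [hN, Nat.card_perm, Nat.card_eq_fintype_card, Fintype.card_fin]; rfl⟩)⟩

/-- Two orbits of Sylow subgroups of prime order coincide. -/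
lemma orb_eq_of_prime_sylow {H M₁ M₂ : Subgroup PSL(2, F)} {ℓ : ℕ} [Fact ℓ.Prime]
    (h₁ : M₁ ∈ cls H) (h₂ : M₂ ∈ cls H) (m₁ : mH H M₁ = ℓ) (m₂ : mH H M₂ = ℓ)
    (hfac : (Nat.card H).factorization ℓ = 1) : orb H M₁ = orb H M₂ := by
  have hcard : ∀ {M : Subgroup PSL(2, F)}, mH H M = ℓ →
      Nat.card ((M ⊓ H).subgroupOf H) = ℓ ^ (Nat.card H).factorization ℓ := fun {M} hm => by
    rw [hfac, pow_one, Nat.card_congr (Subgroup.subgroupOfEquivOfLe inf_le_right).toEquiv]
    exact hm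
  let S₁ := Sylow.ofCard ((M₁ ⊓ H).subgroupOf H) (hcard m₁)
  let S₂ := Sylow.ofCard ((M₂ ⊓ H).subgroupOf H) (hcard m₂)
  obtain ⟨c, hc⟩ := MulAction.exists_smul_eq H S₁ S₂
  obtain ⟨x, hxH, hx1, rfl⟩ := mem_cls.1 h₁
  have hmem : (⟨x, hxH⟩ : H) ∈ (S₁ : Subgroup H) :=
    Subgroup.mem_subgroupOf.2 ⟨self_mem_mx x, hxH⟩
  have hm : (MulAut.conj c).toMonoidHom ⟨x, hxH⟩ ∈ (S₂ : Subgroup H) := by
    rw [← hc]
    exact Subgroup.mem_map_of_mem _ hmem
  have hm' : (c : PSL(2, F)) * x * (c : PSL(2, F))⁻¹ ∈ M₂ := (Subgroup.mem_subgroupOf.1 hm).1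
  refine (orb_eq_of_mem (mem_orb.2 ⟨c, c.2, ?_⟩)).symm
  show Subgroup.map _ (mx x) = M₂
  rw [← mx_conj]
  exact mx_eq_of_mem_cls h₂ hm' fun e => hx1 (by
    simpa [mul_assoc] using congrArg (fun w => (c : PSL(2, F))⁻¹ * w * c) e)

/-- Recognition of `A₅` by three orbits of subgroups of prime order with weights 15, 20, 24. -/
lemma equiv_alt_five {H : Subgroup PSL(2, F)} (hN : Nat.card H = 60)
    (O₁ O₂ O₃ : Finset (Subgroup PSL(2, F))) (h12 : O₁ ≠ O₂) (h13 : O₁ ≠ O₃) (h23 : O₂ ≠ O₃)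
    (hO : ∀ O, O ∈ orbits H ↔ O = O₁ ∨ O = O₂ ∨ O = O₃)
    (w₁ : (mH H (rep O₁)).Prime ∧ O₁.card * (mH H (rep O₁) - 1) = 15)
    (w₂ : (mH H (rep O₂)).Prime ∧ O₂.card * (mH H (rep O₂) - 1) = 20)
    (w₃ : (mH H (rep O₃)).Prime ∧ O₃.card * (mH H (rep O₃) - 1) = 24) :
    Nonempty (H ≃* alternatingGroup (Fin 5)) := by
  classical
  have : Nontrivial H := Finite.one_lt_card_iff_nontrivial.1 (by omega)
  have hsimple : IsSimpleGroup H := ⟨fun A hA => by
    set A' := A.map H.subtype with hA'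
    have hle : A' ≤ H := Subgroup.map_subtype_le A
    have hAn : ∀ c ∈ H, cj c A' = A' := by
      intro c hc
      ext z
      rw [mem_cj]
      constructor
      · rintro ⟨a, ha, e⟩
        refine ⟨⟨c, hc⟩ * a * (⟨c, hc⟩ : H)⁻¹, hA.conj_mem a ha _, ?_⟩
        rw [map_mul, map_mul, map_inv, e]
        simp [mul_assoc]
      · rintro ⟨a, ha, rfl⟩
        refine ⟨(⟨c, hc⟩ : H)⁻¹ * a * ⟨c, hc⟩, ?_, by simp⟩
        simpa using hA.conj_mem a ha (⟨c, hc⟩ : H)⁻¹
    have h := sum_orbits hle hAn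
    have hset : orbits H = {O₁, O₂, O₃} := by ext O; simp [hO]
    rw [hset, Finset.sum_insert (by simp [h12, h13]), Finset.sum_insert (by simp [h23]),
      Finset.sum_singleton] at h
    have hdiv : ∀ O, (mH H (rep O)).Prime →
        Nat.card (rep O ⊓ A' : Subgroup PSL(2, F)) = 1 ∨
          Nat.card (rep O ⊓ A' : Subgroup PSL(2, F)) = mH H (rep O) := fun O hp =>
      (Nat.dvd_prime hp).1 (Subgroup.card_dvd_of_le (inf_le_inf_left _ hle))
    have hA1 : Nat.card A' = Nat.card A := Subgroup.card_map_of_injective Subtype.val_injective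
    have hd : Nat.card A ∣ 60 := hN ▸ A.card_subgroup_dvd_card
    have hpos : 0 < Nat.card A := Nat.card_pos
    rw [hA1] at h
    have key : Nat.card A = 1 ∨ Nat.card A = 60 := by
      obtain ⟨a, ha⟩ : ∃ a, Nat.card A = a + 1 := ⟨Nat.card A - 1, by omega⟩
      rw [ha, Nat.add_sub_cancel] at h
      rw [ha] at hd ⊢
      rcases hdiv O₁ w₁.1 with e1 | e1 <;> rcases hdiv O₂ w₂.1 with e2 | e2 <;>
        rcases hdiv O₃ w₃.1 with e3 | e3 <;> rw [e1, e2, e3] at h <;>
        simp only [w₁.2, w₂.2, w₃.2, Nat.sub_self, mul_zero] at h <;> subst h <;>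
        first | omega | (norm_num at hd ⊢) | skip
    rcases key with e | e
    · exact Or.inl (Subgroup.eq_bot_of_card_eq A e)
    · exact Or.inr (Subgroup.eq_top_of_card_eq A (e.trans hN.symm))⟩
  exact Cfsg.Agent.S0494.result hN

end Cfsg.Agent.H6
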